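import Cfsg.Agent.Lib.SelfThree29.Maximal
import Cfsg.Agent.Lib.Recognition.ThreeSelfCentral

/-!
# Covering the pairs of elements of order three

The number of pairs of elements of order three with product `x` is bounded by the size of the union
of the invariant `3'`-subgroups.
-/

set_option autoImplicit false

namespace CfsgLib.SelfThree29

open Subgroup
open scoped Pointwise

universe u

section
variable {G : Type u} [Group G] [Finite G]

/-- Conjugation by an element normalizing `Q`. -/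
def subAut (Q : Subgroup G) (g : G) (h : g ∈ normalizer (Q : Set G)) : MulAut Q where
  toFun q := ⟨g * q * g⁻¹, (Subgroup.mem_normalizer_iff.1 h q).1 q.2⟩
  invFun q := ⟨g⁻¹ * q * g, (Subgroup.mem_normalizer_iff.1 h _).2 (by simp [mul_assoc])⟩
  left_inv q := Subtype.ext (by simp [mul_assoc])
  right_inv q := Subtype.ext (by simp [mul_assoc])
  map_mul' a b := Subtype.ext (by simp [mul_assoc])

/-- An invariant subgroup normalized by an inverter has square order. -/
theorem card_eq_sq {x : G} (hx : SC3 x) {Q : Subgroup G} (hQ : XInv x Q) {s : G}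
    (hs : s * x * s⁻¹ = x⁻¹) (hsQ : ∀ q ∈ Q, s * q * s⁻¹ ∈ Q) :
    Nat.card Q = Nat.card (Q ⊓ centralizer ({s} : Set G) : Subgroup G) ^ 2 := by
  have := hQ.isNilpotent hx
  let σ := subAut Q s (mem_normalizer_fintype hsQ)
  let φ := subAut Q x hQ.mem_normalizer
  have hss := hx.inverter_mul_self hs
  have h : SThree φ σ := by
    refine ⟨fun q => Subtype.ext (hx.conj_three _), fun q => Subtype.ext ?_,
      fun q => Subtype.ext ?_, fun q hq => Subtype.ext (hx.eq_one_of_commute hQ.not_dvd q.2 ?_)⟩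
    · show s * (s * (q : G) * s⁻¹) * s⁻¹ = q
      calc s * (s * (q : G) * s⁻¹) * s⁻¹ = (s * s) * q * (s * s)⁻¹ := by group
        _ = _ := by rw [hss]; group
    · show s * (x * (q : G) * x⁻¹) * s⁻¹ = x * (x * (s * q * s⁻¹) * x⁻¹) * x⁻¹
      calc s * (x * (q : G) * x⁻¹) * s⁻¹
          = (s * x * s⁻¹) * (s * q * s⁻¹) * (s * x * s⁻¹)⁻¹ := by group
        _ = (x * x) * (s * q * s⁻¹) * (x * x)⁻¹ := by rw [hs, hx.mul_self]
        _ = _ := by simp only [mul_inv_rev, mul_assoc]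
    · have := congrArg Subtype.val hq
      exact (mul_inv_eq_iff_eq_mul.1 this).symm
  rw [h.card_eq]
  congr 1
  refine Nat.card_congr
    { toFun := fun q => ⟨(q : Q), ⟨(q : Q).2, mem_centralizer_singleton_iff.2 ?_⟩⟩
      invFun := fun q => ⟨⟨(q : G), q.2.1⟩, Subtype.ext ?_⟩
      left_inv := fun _ => rfl
      right_inv := fun _ => rfl }
  · have := congrArg Subtype.val q.2
    exact (mul_inv_eq_iff_eq_mul.1 this).symm
  · show s * (q : G) * s⁻¹ = q
    rw [mul_inv_eq_iff_eq_mul]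
    exact (mem_centralizer_singleton_iff.1 q.2.2).symm

/-- A central involution of an invariant subgroup of even order, commuting with a given element
normalizing it whose order divides two. -/
theorem exists_central_involution {x : G} (hx : SC3 x) {Q : Subgroup G} (hQ : XInv x Q)
    (h2 : 2 ∣ Nat.card Q) {s : G} (hss : s * s = 1) (hsQ : ∀ q ∈ Q, s * q * s⁻¹ ∈ Q) :
    ∃ z ∈ Q, orderOf z = 2 ∧ (∀ q ∈ Q, q * z = z * q) ∧ s * z = z * s := by
  classical
  have : Fact (Nat.Prime 2) := ⟨Nat.prime_two⟩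
  have hnil := hQ.isNilpotent hx
  obtain ⟨P⟩ := (inferInstance : Nonempty (Sylow 2 Q))
  have hPn : (P : Subgroup Q).Normal := Sylow.normal_of_normalizerCondition
    Group.normalizerCondition_of_isNilpotent P
  have hPne : (P : Subgroup Q) ≠ ⊥ := P.ne_bot_of_dvd_card h2
  set C := center Q ⊓ (P : Subgroup Q)
  have hC : C ≠ ⊥ := CfsgLib.OddOrder.PuigSeries.inf_center_ne_bot (P : Subgroup Q) hPne
  have hC2 : 2 ∣ Nat.card C := by
    obtain ⟨k, hk⟩ := IsPGroup.iff_card.1 (P.isPGroup'.to_le (inf_le_right : C ≤ P))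
    rcases Nat.eq_zero_or_pos k with rfl | hpos
    · exact absurd (eq_bot_of_card_eq C (by rw [hk]; rfl)) hC
    · exact hk ▸ dvd_pow_self 2 hpos.ne'
  obtain ⟨⟨w, hw⟩, hwo⟩ := exists_prime_orderOf_dvd_card' 2 hC2
  rw [orderOf_mk] at hwo
  let Ω : Subgroup Q :=
    { carrier := {z | z ∈ center Q ∧ z * z = 1}
      one_mem' := ⟨one_mem _, mul_one 1⟩
      mul_mem' := fun {a b} ha hb => ⟨mul_mem ha.1 hb.1, by
        rw [mul_assoc, ← mul_assoc b a b, ← (mem_center_iff.1 hb.1 a), mul_assoc a b b, hb.2,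
          mul_one, ha.2]⟩
      inv_mem' := fun {a} ha => by rw [inv_eq_of_mul_eq_one_right ha.2]; exact ha }
  have hwΩ : w ∈ Ω := ⟨hw.1, by rw [← sq, ← hwo, pow_orderOf_eq_one]⟩
  have hdvd : 2 ∣ Nat.card Ω := hwo ▸ orderOf_mk w hwΩ ▸ orderOf_dvd_natCard (⟨w, hwΩ⟩ : Ω)
  let σ := subAut Q s (mem_normalizer_fintype hsQ)
  have hσ : ∀ z, z ∈ Ω → σ z ∈ Ω := fun z hz => by
    refine ⟨mem_center_iff.2 fun u => ?_, by rw [← map_mul, hz.2, map_one]⟩
    obtain ⟨u, rfl⟩ := σ.surjective u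
    rw [← map_mul, ← map_mul, mem_center_iff.1 hz.1 u]
  have hσσ : ∀ z : Q, σ (σ z) = z := fun z => Subtype.ext (by
    show s * (s * (z : G) * s⁻¹) * s⁻¹ = z
    calc s * (s * (z : G) * s⁻¹) * s⁻¹ = (s * s) * z * (s * s)⁻¹ := by group
      _ = _ := by rw [hss]; group)
  let π : Equiv.Perm Ω :=
    ⟨fun z => ⟨σ z, hσ _ z.2⟩, fun z => ⟨σ z, hσ _ z.2⟩,
      fun z => Subtype.ext (hσσ _), fun z => Subtype.ext (hσσ _)⟩
  have : Fintype Ω := Fintype.ofFinite Ω
  rw [Nat.card_eq_fintype_card] at hdvd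
  obtain ⟨z, hz, hz1⟩ := Equiv.Perm.exists_fixed_point_of_prime' (n := 1) hdvd (σ := π)
    (Equiv.ext fun v => by
      rw [pow_one, sq, Equiv.Perm.mul_apply]
      exact Subtype.ext (hσσ _))
    (a := 1) (Subtype.ext (map_one σ))
  have hz' : s * ((z : Q) : G) * s⁻¹ = ((z : Q) : G) :=
    congrArg (fun v : Ω => ((v : Q) : G)) hz
  refine ⟨((z : Q) : G), (z : Q).2, ?_, fun q hq => ?_, mul_inv_eq_iff_eq_mul.1 hz'⟩
  · rw [orderOf_coe]
    exact orderOf_eq_prime (by rw [sq]; exact z.2.2) fun e => hz1 (Subtype.ext e)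
  · exact congrArg Subtype.val (mem_center_iff.1 z.2.1 ⟨q, hq⟩)

/-- The element attached to a pair of elements of order three with product `x` lies in an invariant
subgroup. -/
theorem exists_xinv_of_pair {x : G} (hx : SC3 x) {u : G} (hu : orderOf u = 3)
    (hv : orderOf (u⁻¹ * x) = 3) : ∃ A : Subgroup G, XInv x A ∧ u * x ∈ A := by
  obtain ⟨a, ha⟩ : ∃ a, a = u * x := ⟨_, rfl⟩
  rw [← ha]
  by_cases ha1 : a = 1
  · exact ⟨⊥, xinv_bot x, by rw [ha1]; exact one_mem _⟩
  obtain ⟨b, hb⟩ : ∃ b, b = x * a * x⁻¹ := ⟨_, rfl⟩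
  obtain ⟨c, hc⟩ : ∃ c, c = x * b * x⁻¹ := ⟨_, rfl⟩
  have hcx : x * c * x⁻¹ = a := by rw [hc, hb]; exact hx.conj_three a
  have hc' : c = x⁻¹ * a * x := by
    rw [hc, hb]
    calc x * (x * a * x⁻¹) * x⁻¹ = (x * x) * a * (x * x)⁻¹ := by
          simp only [mul_inv_rev, mul_assoc]
      _ = _ := by rw [hx.mul_self, inv_inv]
  have hu3 : u ^ 3 = 1 := hu ▸ pow_orderOf_eq_one u
  have hv3 : (u⁻¹ * x) ^ 3 = 1 := hv ▸ pow_orderOf_eq_one (u⁻¹ * x)
  have hxxx : x * (x * x) = 1 := by rw [hx.mul_self, mul_inv_cancel]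
  have e1 : a * c * b = 1 := by
    have hu' : u = a * x⁻¹ := by rw [ha]; group
    calc a * c * b = a * (x⁻¹ * a * x) * (x * a * x⁻¹) := by rw [hc', hb]
      _ = a * x⁻¹ * (a * (x * x)) * (a * x⁻¹) := by simp only [mul_assoc]
      _ = u ^ 3 := by rw [hx.mul_self, ← hu', pow_three, mul_assoc]
      _ = 1 := hu3
  have e2 : b * c * a = 1 := by
    have hv' : u⁻¹ * x = x * a⁻¹ * x := by rw [ha]; group
    have h1 : (x * a⁻¹ * x) ^ 3 = 1 := hv' ▸ hv3
    have h2 : a⁻¹ * (x⁻¹ * a⁻¹ * x) * (x * a⁻¹ * x⁻¹) = 1 := by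
      have e : a⁻¹ * (x⁻¹ * a⁻¹ * x) * (x * a⁻¹ * x⁻¹) =
          x⁻¹ * (x * a⁻¹ * x) ^ 3 * x := by
        calc a⁻¹ * (x⁻¹ * a⁻¹ * x) * (x * a⁻¹ * x⁻¹)
            = a⁻¹ * (x * x) * a⁻¹ * (x * x) * a⁻¹ * (x * x) := by
              rw [hx.mul_self]
              calc a⁻¹ * (x⁻¹ * a⁻¹ * x) * (x * a⁻¹ * x⁻¹)
                  = a⁻¹ * x⁻¹ * a⁻¹ * (x * x) * a⁻¹ * x⁻¹ := by simp only [mul_assoc]
                _ = _ := by rw [hx.mul_self]
          _ = _ := by simp only [pow_three, mul_assoc, inv_mul_cancel_left]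
      rw [e, h1]; group
    have h3 := congrArg (·⁻¹) h2
    simp only [mul_inv_rev, inv_inv, inv_one] at h3
    rw [hb, hc']
    calc x * a * x⁻¹ * (x⁻¹ * a * x) * a = x * (a * x⁻¹) * (x⁻¹ * (a * x) * a) := by
          simp only [mul_assoc]
      _ = 1 := by rw [← h3]
  have f1 : b * a * c = 1 := by
    calc b * a * c = b * (a * c * b) * b⁻¹ := by group
      _ = 1 := by rw [e1]; group
  have hbc : c * a = a * c := by
    have h4 : b * (c * a) = b * (a * c) := by rw [← mul_assoc, ← mul_assoc, e2, f1]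
    exact mul_left_cancel h4
  have hab : a * b = b * a := by
    calc a * b = (x * c * x⁻¹) * (x * a * x⁻¹) := by rw [hcx, hb]
      _ = x * (c * a) * x⁻¹ := by group
      _ = x * (a * c) * x⁻¹ := by rw [hbc]
      _ = (x * a * x⁻¹) * (x * c * x⁻¹) := by group
      _ = _ := by rw [hcx, hb]
  set A := closure ({a, b} : Set G) with hA
  have haA : a ∈ A := subset_closure (by simp)
  have hbA : b ∈ A := subset_closure (by simp)
  have hcA : c ∈ A := by
    have : c = a⁻¹ * b⁻¹ := by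
      calc c = a⁻¹ * (a * c * b) * b⁻¹ := by group
        _ = _ := by rw [e1, mul_one]
    rw [this]
    exact mul_mem (inv_mem haA) (inv_mem hbA)
  have hconj : ∀ q ∈ A, x * q * x⁻¹ ∈ A := by
    intro q hq
    have hle : A.map (MulAut.conj x).toMonoidHom ≤ A := by
      rw [hA, MonoidHom.map_closure, closure_le]
      rintro _ ⟨w, (rfl | rfl), rfl⟩
      · show x * w * x⁻¹ ∈ Subgroup.closure _
        rw [← hb]; exact hbA
      · show x * w * x⁻¹ ∈ Subgroup.closure _
        rw [← hc]; exact hcA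
    exact hle (mem_map_of_mem _ hq)
  have hcomm : ∀ p ∈ A, ∀ q ∈ A, p * q = q * p := by
    have hcl : IsMulCommutative (closure ({a, b} : Set G)) :=
      Subgroup.isMulCommutative_closure (by
        rintro p (rfl | rfl) q (rfl | rfl)
        · rfl
        · exact hab
        · exact hab.symm
        · rfl)
    exact fun p hp q hq => congrArg Subtype.val (hcl.is_comm.comm ⟨p, hp⟩ ⟨q, hq⟩)
  refine ⟨A, ⟨hconj, fun h3 => ?_⟩, haA⟩
  have : Fact (Nat.Prime 3) := ⟨Nat.prime_three⟩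
  obtain ⟨⟨g, hgA⟩, hg⟩ := exists_prime_orderOf_dvd_card' 3 h3
  rw [orderOf_mk] at hg
  have hgx := hx.of_orderOf hg
  have hAg : ∀ q ∈ A, q ∈ zpowers g := fun q hq => hgx.cent q (hcomm q hq g hgA)
  have hxg : x * g * x⁻¹ ∈ zpowers g := hAg _ (hconj g hgA)
  have hxgz : x ∈ zpowers g := by
    rcases hgx.mem_or_inverts hxg with h | h
    · exact h
    · exfalso
      have := hgx.inverter_mul_self h
      rw [hx.mul_self, inv_eq_one] at this
      exact hx.ne_one this
  obtain ⟨i, hi⟩ := hxgz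
  obtain ⟨j, hj⟩ := hAg a haA
  have hax : a * x = x * a := by
    rw [← hi, ← hj]
    exact (Commute.zpow_zpow (Commute.refl g) j i).eq
  rcases hx.mem_zpowers_cases.1 (hx.cent a hax) with h | h | h
  · exact ha1 h
  · have : u = 1 := by rw [ha] at h; simpa using h
    rw [this, orderOf_one] at hu
    omega
  · have : u⁻¹ * x = 1 := by
      have hu' : u = x⁻¹ * x⁻¹ := by
        calc u = a * x⁻¹ := by rw [ha]; group
          _ = _ := by rw [h]
      rw [hu', mul_inv_rev, inv_inv, hx.mul_self, inv_mul_cancel]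
    rw [this, orderOf_one] at hv
    omega

theorem sum_pred_le_prod_pred {ι : Type*} (T : Finset ι) (f : ι → ℕ) (hf : ∀ i ∈ T, 1 ≤ f i) :
    ∑ i ∈ T, (f i - 1) ≤ (∏ i ∈ T, f i) - 1 := by
  classical
  induction T using Finset.induction_on with
  | empty => simp
  | insert i T hi ih =>
    rw [Finset.sum_insert hi, Finset.prod_insert hi]
    have h1 := hf i (Finset.mem_insert_self i T)
    have h2 : 1 ≤ ∏ j ∈ T, f j :=
      Finset.one_le_prod' fun j hj => hf j (Finset.mem_insert_of_mem hj)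
    have := ih fun j hj => hf j (Finset.mem_insert_of_mem hj)
    generalize f i = A at *
    generalize (∏ j ∈ T, f j) = B at *
    obtain ⟨A, rfl⟩ := Nat.exists_eq_add_of_le h1
    obtain ⟨B, rfl⟩ := Nat.exists_eq_add_of_le h2
    have : (1 + A) * (1 + B) = 1 + A + B + A * B := by ring
    omega

theorem two_mul_card_dvd_centralizer {x : G} (hx : SC3 x) {Q : Subgroup G} (hQ : XInv x Q)
    {s : G} (hs : s * x * s⁻¹ = x⁻¹) (hsQ : ∀ q ∈ Q, s * q * s⁻¹ ∈ Q) {z : G}
    (hzc : ∀ q ∈ Q, q * z = z * q) (hsz : s * z = z * s) :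
    2 * Nat.card Q ∣ Nat.card (centralizer ({z} : Set G)) := by
  have hnot : s ∉ Q := hx.inverter_not_mem hQ.not_dvd hQ.mem_normalizer hs
  have hle : zpowers s ≤ normalizer (Q : Set G) := zpowers_le.2 (mem_normalizer_fintype hsQ)
  have h1 := card_sup_of_normalizes hle
  have h2 : Q.relIndex (zpowers s) = 2 := by
    have hcard : Nat.card (zpowers s) = 2 := by rw [Nat.card_zpowers, hx.orderOf_inverter hs]
    have hd := relIndex_dvd_card Q (zpowers s)
    rw [hcard] at hd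
    rcases (Nat.dvd_prime Nat.prime_two).1 hd with h | h
    · exact absurd (relIndex_eq_one.1 h (mem_zpowers s)) hnot
    · exact h
  rw [h2, mul_comm] at h1
  rw [← h1]
  refine card_dvd_of_le (sup_le (zpowers_le.2 (mem_centralizer_singleton_iff.2 hsz)) fun q hq => ?_)
  exact mem_centralizer_singleton_iff.2 (hzc q hq)

end

/-- The bound on the number of pairs. -/
theorem exists_bound {G : Type u} [Group G] [Finite G] [IsSimpleGroup G] {x : G} (hx : SC3 x)
    (ih : SmallerGood G) {s : G} (hs : s * x * s⁻¹ = x⁻¹)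
    (hconj : ∀ t : G, orderOf t = 2 → IsConj s t) :
    ∃ Pi0 E F : ℕ,
      Nat.card {u : G // orderOf u = 3 ∧ orderOf (u⁻¹ * x) = 3} ≤ 1 + 2 * (Pi0 - 1) + E + F ∧
      (Pi0 ∣ Nat.card G ∧ Odd Pi0 ∧ Pi0 % 3 = 1) ∧
      (E = 0 ∨ ∃ q, E = 2 * (q - 1) ∧ q ∣ Nat.card (centralizer ({s} : Set G)) ∧ q % 3 = 1 ∧
        2 ∣ q ∧ 2 ^ (Nat.card G).factorization 2 ∣ q ∧
        2 ^ (Nat.card G).factorization 2 % 3 = 1) ∧
      (F = 0 ∨ ∃ C, 2 ≤ C ∧ Even C ∧ 2 * C ^ 2 ∣ Nat.card (centralizer ({s} : Set G)) ∧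
        F = (C + 1) * (Nat.card (centralizer ({s} : Set G)) - 2)) ∧
      ((E = 0 ∧ F = 0) ∨
        ∃ u v : G, orderOf u = 2 ∧ orderOf v = 2 ∧ u ≠ v ∧ u * v = v * u) := by
  classical
  have : Fintype G := Fintype.ofFinite G
  have : Fintype (Subgroup G) := Fintype.ofFinite _
  have : Fact (Nat.Prime 2) := ⟨Nat.prime_two⟩
  set c := Nat.card (centralizer ({s} : Set G)) with hc
  have hs2 := hx.orderOf_inverter hs
  have hss := hx.inverter_mul_self hs
  have hcard_cent : ∀ z : G, orderOf z = 2 → Nat.card (centralizer ({z} : Set G)) = c := fun z hz =>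
    (CfsgLib.ThreeSelfCentral.card_centralizer_of_isConj (hconj z hz)).symm
  set fam := Finset.univ.filter fun Q : Subgroup G => MaxX x Q ∧ Q ≠ ⊥ with hfam
  have hmem : ∀ Q, Q ∈ fam ↔ MaxX x Q ∧ Q ≠ ⊥ := fun Q => by simp [hfam]
  let el : Subgroup G → Finset G := fun Q => (Finset.univ.filter fun g => g ∈ Q).erase 1
  have hel : ∀ Q : Subgroup G, (el Q).card = Nat.card Q - 1 := fun Q => by
    rw [Finset.card_erase_of_mem (by simp [one_mem]), Nat.card_eq_fintype_card,
      Fintype.card_subtype]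
  have hW : Nat.card {u : G // orderOf u = 3 ∧ orderOf (u⁻¹ * x) = 3} ≤
      1 + ∑ Q ∈ fam, (Nat.card Q - 1) := by
    set U := insert (1 : G) (fam.biUnion el) with hU
    have hUmem : ∀ u : {u : G // orderOf u = 3 ∧ orderOf (u⁻¹ * x) = 3}, (u : G) * x ∈ U := by
      intro u
      obtain ⟨A, hA, hmA⟩ := exists_xinv_of_pair hx u.2.1 u.2.2
      obtain ⟨Q, hQ, hAQ⟩ := exists_maxX hA
      by_cases h1 : (u : G) * x = 1
      · simp [hU, h1]
      · refine Finset.mem_insert_of_mem (Finset.mem_biUnion.2 ⟨Q, (hmem Q).2 ⟨hQ, ?_⟩, ?_⟩)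
        · intro hb
          exact h1 (mem_bot.1 (hb ▸ hAQ hmA))
        · simp [el, h1, hAQ hmA]
    calc Nat.card {u : G // orderOf u = 3 ∧ orderOf (u⁻¹ * x) = 3}
        ≤ Nat.card U := Nat.card_le_card_of_injective (fun u => (⟨_, hUmem u⟩ : U))
          fun a b e => Subtype.ext (mul_right_cancel (congrArg Subtype.val e))
      _ = U.card := by rw [Nat.card_eq_fintype_card, Fintype.card_coe]
      _ ≤ (fam.biUnion el).card + 1 := Finset.card_insert_le _ _
      _ ≤ 1 + ∑ Q ∈ fam, (Nat.card Q - 1) := by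
          have := Finset.card_biUnion_le (s := fam) (t := el)
          simp only [hel] at this
          omega
  let cj : Subgroup G → Subgroup G := fun Q => Q.map (MulAut.conj s).toMonoidHom
  have hcj : ∀ Q, Nat.card (cj Q) = Nat.card Q := fun Q =>
    card_map_of_injective (MulAut.conj s).injective
  have cover : ∀ (A T : Finset (Subgroup G)), A ⊆ T ∪ T.image cj →
      ∑ Q ∈ A, (Nat.card Q - 1) ≤ 2 * ∑ Q ∈ T, (Nat.card Q - 1) := by
    intro A T h
    calc ∑ Q ∈ A, (Nat.card Q - 1) ≤ ∑ Q ∈ T ∪ T.image cj, (Nat.card Q - 1) :=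
          Finset.sum_le_sum_of_subset h
      _ ≤ ∑ Q ∈ T, (Nat.card Q - 1) + ∑ Q ∈ T.image cj, (Nat.card Q - 1) := by
          rw [← Finset.sum_union_inter]; omega
      _ ≤ ∑ Q ∈ T, (Nat.card Q - 1) + ∑ Q ∈ T, (Nat.card Q - 1) := by
          refine Nat.add_le_add_left (le_trans
            (Finset.sum_image_le_of_nonneg fun _ _ => Nat.zero_le _) ?_) _
          exact Finset.sum_le_sum fun Q _ => by rw [hcj]
      _ = _ := by ring
  -- the classes
  set O := fam.filter fun Q : Subgroup G => ¬ 2 ∣ Nat.card Q with hO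
  set EX := fam.filter fun Q : Subgroup G => 2 ∣ Nat.card Q ∧ ¬ ∀ q ∈ Q, s * q * s⁻¹ ∈ Q with hEX
  set FS := fam.filter fun Q : Subgroup G => 2 ∣ Nat.card Q ∧ ∀ q ∈ Q, s * q * s⁻¹ ∈ Q with hFS
  have hsplit : ∑ Q ∈ fam, (Nat.card Q - 1) ≤ ∑ Q ∈ O, (Nat.card Q - 1) +
      ∑ Q ∈ EX, (Nat.card Q - 1) + ∑ Q ∈ FS, (Nat.card Q - 1) := by
    have hsub : fam ⊆ O ∪ EX ∪ FS := fun Q hQ => by
      simp only [hO, hEX, hFS, Finset.mem_union, Finset.mem_filter, hQ, true_and]
      tauto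
    calc ∑ Q ∈ fam, (Nat.card Q - 1) ≤ ∑ Q ∈ O ∪ EX ∪ FS, (Nat.card Q - 1) :=
          Finset.sum_le_sum_of_subset hsub
      _ ≤ _ := by
          have h1 := Finset.sum_union_inter (s₁ := O ∪ EX) (s₂ := FS)
            (f := fun Q : Subgroup G => Nat.card Q - 1)
          have h2 := Finset.sum_union_inter (s₁ := O) (s₂ := EX)
            (f := fun Q : Subgroup G => Nat.card Q - 1)
          omega
  -- odd order
  obtain ⟨Pi0, hP0', hPle⟩ : ∃ Pi0 : ℕ, (Pi0 ∣ Nat.card G ∧ Odd Pi0 ∧ Pi0 % 3 = 1) ∧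
      ∑ Q ∈ O, (Nat.card Q - 1) ≤ 2 * (Pi0 - 1) := by
    let good := O.powerset.filter fun T : Finset (Subgroup G) =>
      (T : Set (Subgroup G)).Pairwise fun A B => (Nat.card A).Coprime (Nat.card B)
    obtain ⟨T, hT, hTmax⟩ := good.exists_max_image Finset.card
      ⟨∅, by simp [good]⟩
    simp only [good, Finset.mem_filter, Finset.mem_powerset] at hT hTmax
    refine ⟨∏ Q ∈ T, Nat.card Q, ⟨?_, ?_, ?_⟩, ?_⟩
    · refine Nat.dvd_iff_prime_pow_dvd_dvd _ _ |>.2 fun p k hp hd => ?_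
      rcases Nat.eq_zero_or_pos k with rfl | hk
      · simp
      obtain ⟨Q, hQ, hpQ⟩ := (hp.prime.dvd_finsetProd_iff _).1 ((dvd_pow_self p hk.ne').trans hd)
      rw [← Finset.mul_prod_erase T _ hQ] at hd
      have hcop : (p ^ k).Coprime (∏ R ∈ T.erase Q, Nat.card R) := by
        refine Nat.Coprime.pow_left k (Nat.Coprime.prod_right fun R hR => ?_)
        have hne := (Finset.mem_erase.1 hR).1
        exact Nat.Coprime.coprime_dvd_left hpQ
          (hT.2 hQ (Finset.mem_of_mem_erase hR) hne.symm)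
      exact (hcop.dvd_of_dvd_mul_right hd).trans (card_subgroup_dvd_card Q)
    · rw [Nat.odd_iff, ← Nat.two_dvd_ne_zero]
      intro h
      obtain ⟨Q, hQ, hpQ⟩ := (Nat.prime_two.prime.dvd_finsetProd_iff _).1 h
      exact (Finset.mem_filter.1 (hT.1 hQ)).2 hpQ
    · rw [Finset.prod_nat_mod, Finset.prod_congr rfl fun Q hQ =>
        ((hmem Q).1 (Finset.mem_filter.1 (hT.1 hQ)).1).1.1.card_mod hx]
      simp
    · refine le_trans (cover O T fun Q hQ => ?_)
        (Nat.mul_le_mul_left 2 (sum_pred_le_prod_pred T _ fun R _ => Nat.card_pos))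
      by_contra hcov
      simp only [Finset.mem_union, not_or] at hcov
      have hnot : Q ∉ T := hcov.1
      have := hTmax (insert Q T) ⟨Finset.insert_subset hQ hT.1, by
        rw [Finset.coe_insert]
        refine Set.Pairwise.insert hT.2 fun R hR _ => ?_
        suffices h : (Nat.card Q).Coprime (Nat.card R) from ⟨h, h.symm⟩
        by_contra hcop
        obtain ⟨p, hp, hpQ, hpR⟩ := Nat.Prime.not_coprime_iff_dvd.1 hcop
        have : Fact p.Prime := ⟨hp⟩
        have hQo := Finset.mem_filter.1 hQ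
        have hRo := Finset.mem_filter.1 (hT.1 hR)
        have hp2 : p ≠ 2 := fun e => hQo.2 (e ▸ hpQ)
        rcases MaxX.eq_or_eq_conj hx ih ((hmem R).1 hRo.1).1 ((hmem Q).1 hQo.1).1 hpR hpQ hs
          (Or.inl hp2) (Or.inl hp2) with h | h
        · exact hnot (h ▸ hR)
        · exact hcov.2 (h ▸ Finset.mem_image_of_mem cj hR)⟩
      rw [Finset.card_insert_of_notMem hnot] at this
      omega
  -- even order, not normalized by the inverter
  obtain ⟨E, hE, hEle⟩ : ∃ E : ℕ, ((E = 0 ∨ ∃ q, E = 2 * (q - 1) ∧ q ∣ c ∧ q % 3 = 1 ∧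
        2 ∣ q ∧ 2 ^ (Nat.card G).factorization 2 ∣ q ∧
        2 ^ (Nat.card G).factorization 2 % 3 = 1) ∧
      ((E = 0) ∨ ∃ u v : G, orderOf u = 2 ∧ orderOf v = 2 ∧ u ≠ v ∧ u * v = v * u)) ∧
      ∑ Q ∈ EX, (Nat.card Q - 1) ≤ E := by
    rcases EX.eq_empty_or_nonempty with he | ⟨R, hR⟩
    · exact ⟨0, ⟨Or.inl rfl, Or.inl rfl⟩, by simp [he]⟩
    have hR' := Finset.mem_filter.1 hR
    obtain ⟨hRmax, hRne⟩ := (hmem R).1 hR'.1
    obtain ⟨hR2, hRs⟩ := hR'.2
    refine ⟨2 * (Nat.card R - 1), ⟨Or.inr ⟨Nat.card R, rfl, ?_, hRmax.1.card_mod hx, hR2, ?_⟩,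
      Or.inr ?_⟩, ?_⟩
    · obtain ⟨z, hzR, hz2, hzc, -⟩ := exists_central_involution hx hRmax.1 hR2
        (s := 1) (mul_one 1) (fun q hq => by simpa using hq)
      rw [← hcard_cent z hz2]
      exact card_dvd_of_le fun q hq => mem_centralizer_singleton_iff.2 (hzc q hq)
    · obtain ⟨S, hSR, hSp, hSmax, hSn, hSi, hS0⟩ := exists_part hx hRmax.1 2
      obtain ⟨P, hP⟩ := hRmax.part_sylow hx ih hSR hSp hSmax hSn hSi (hS0 hR2) hs (Or.inr hRs)
      rw [← P.card_eq_multiplicity]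
      refine ⟨card_dvd_of_le (hP ▸ hSR), ?_⟩
      have : XInv x S := ⟨fun t ht => hSn x hRmax.1.conj t ht,
        fun h => hRmax.1.not_dvd (h.trans (card_dvd_of_le hSR))⟩
      have := this.card_mod hx
      rwa [← hP] at this
    · obtain ⟨z, hzR, hz2, hzc, -⟩ := exists_central_involution hx hRmax.1 hR2
        (s := 1) (mul_one 1) (fun q hq => by simpa using hq)
      refine ⟨z, x * z * x⁻¹, hz2, by rw [orderOf_cj]; exact hz2, fun e => ?_, ?_⟩
      · have := hx.eq_one_of_commute hRmax.1.not_dvd hzR (mul_inv_eq_iff_eq_mul.1 e.symm).symm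
        rw [this, orderOf_one] at hz2
        omega
      · exact (hzc _ (hRmax.1.conj z hzR)).symm
    · refine le_trans (cover EX {R} fun Q hQ => ?_) (by simp)
      have hQ' := Finset.mem_filter.1 hQ
      rcases MaxX.eq_or_eq_conj hx ih hRmax ((hmem Q).1 hQ'.1).1 hR2 hQ'.2.1 hs (Or.inr hRs)
        (Or.inr hQ'.2.2) with h | h
      · simp [h]
      · simp [h, cj]
  -- even order, normalized by the inverter
  obtain ⟨F, hF, hFle⟩ : ∃ F : ℕ, ((F = 0 ∨ ∃ C, 2 ≤ C ∧ Even C ∧ 2 * C ^ 2 ∣ c ∧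
        F = (C + 1) * (c - 2)) ∧
      ((F = 0) ∨ ∃ u v : G, orderOf u = 2 ∧ orderOf v = 2 ∧ u ≠ v ∧ u * v = v * u)) ∧
      ∑ Q ∈ FS, (Nat.card Q - 1) ≤ F := by
    rcases FS.eq_empty_or_nonempty with he | hne
    · exact ⟨0, ⟨Or.inl rfl, Or.inl rfl⟩, by simp [he]⟩
    let C : Subgroup G → ℕ := fun Q => Nat.card (Q ⊓ centralizer ({s} : Set G) : Subgroup G)
    have hfacts : ∀ Q ∈ FS, MaxX x Q ∧ 2 ∣ Nat.card Q ∧ (∀ q ∈ Q, s * q * s⁻¹ ∈ Q) := fun Q hQ =>
      have h := Finset.mem_filter.1 hQ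
      ⟨((hmem Q).1 h.1).1, h.2.1, h.2.2⟩
    have hsq : ∀ Q ∈ FS, Nat.card Q = C Q ^ 2 := fun Q hQ =>
      card_eq_sq hx (hfacts Q hQ).1.1 hs (hfacts Q hQ).2.2
    obtain ⟨R, hR, hRmax'⟩ := FS.exists_max_image C hne
    obtain ⟨hRmax, hR2, hRs⟩ := hfacts R hR
    have hCe : Even (C R) := by
      rw [even_iff_two_dvd]
      rw [hsq R hR] at hR2
      exact Nat.prime_two.dvd_of_dvd_pow hR2
    have hC2 : 2 ≤ C R := by
      obtain ⟨j, hj⟩ := hCe
      have : 0 < C R := Nat.card_pos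
      omega
    obtain ⟨z, hzR, hz2, hzc, hsz⟩ := exists_central_involution hx hRmax.1 hR2 hss hRs
    refine ⟨(C R + 1) * (c - 2), ⟨Or.inr ⟨C R, hC2, hCe, ?_, rfl⟩, Or.inr ?_⟩, ?_⟩
    · rw [← hsq R hR, ← hcard_cent z hz2]
      exact two_mul_card_dvd_centralizer hx hRmax.1 hs hRs hzc hsz
    · exact ⟨s, z, hs2, hz2, fun e => hx.inverter_not_mem hRmax.1.not_dvd
        hRmax.1.mem_normalizer hs (e ▸ hzR), hsz⟩
    · have hbound : ∑ Q ∈ FS, (C Q - 1) ≤ c - 2 := by
        let ec : Subgroup G → Finset G := fun Q => el (Q ⊓ centralizer ({s} : Set G))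
        have hdis : (FS : Set (Subgroup G)).PairwiseDisjoint ec := by
          intro Q hQ Q' hQ' hne'
          rw [Function.onFun, Finset.disjoint_left]
          intro g hg hg'
          simp only [ec, el, Finset.mem_erase, Finset.mem_filter, Finset.mem_univ, true_and] at hg hg'
          have hmS : ∀ A ∈ FS, Maximal (SInv x s) A := fun A hA =>
            ⟨⟨(hfacts A hA).1.1, (hfacts A hA).2.2⟩, fun B hB hle => (hfacts A hA).1.2 hB.1 hle⟩
          have hd := sinv_disjoint hx ih hs (hmS Q hQ) (hmS Q' hQ') hne'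
          exact hg.1 (mem_bot.1 (hd ▸ (⟨hg.2.1, hg'.2.1⟩ : g ∈ Q ⊓ Q')))
        have hsub : FS.biUnion ec ⊆
            (((Finset.univ.filter fun g => g ∈ centralizer ({s} : Set G)).erase 1).erase s) := by
          intro g hg
          obtain ⟨Q, hQ, hgQ⟩ := Finset.mem_biUnion.1 hg
          simp only [ec, el, Finset.mem_erase, Finset.mem_filter, Finset.mem_univ, true_and] at hgQ
          simp only [Finset.mem_erase, Finset.mem_filter, Finset.mem_univ, true_and]
          refine ⟨fun e => ?_, hgQ.1, hgQ.2.2⟩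
          exact hx.inverter_not_mem (hfacts Q hQ).1.1.not_dvd (hfacts Q hQ).1.1.mem_normalizer hs
            (e ▸ hgQ.2.1)
        have h1 := Finset.card_le_card hsub
        rw [Finset.card_biUnion hdis] at h1
        have h2 : ∀ Q, (ec Q).card = C Q - 1 := fun Q => hel _
        simp only [h2] at h1
        refine h1.trans (le_of_eq ?_)
        rw [Finset.card_erase_of_mem, Finset.card_erase_of_mem (by simp [one_mem]), hc,
          Nat.card_eq_fintype_card, Fintype.card_subtype]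
        · omega
        · simp only [Finset.mem_erase, Finset.mem_filter, Finset.mem_univ, true_and]
          exact ⟨hx.inverter_ne_one hs, mem_centralizer_singleton_iff.2 rfl⟩
      calc ∑ Q ∈ FS, (Nat.card Q - 1) ≤ ∑ Q ∈ FS, (C R + 1) * (C Q - 1) := by
            refine Finset.sum_le_sum fun Q hQ => ?_
            rw [hsq Q hQ]
            have hle := hRmax' Q hQ
            have hpos : 1 ≤ C Q := Nat.card_pos
            obtain ⟨j, hj⟩ := Nat.exists_eq_add_of_le hpos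
            rw [hj, show (1 + j) ^ 2 - 1 = (1 + j + 1) * j by
              rw [show (1 + j) ^ 2 = (1 + j + 1) * j + 1 by ring]; omega,
              show 1 + j - 1 = j by omega]
            exact Nat.mul_le_mul_right j (by omega)
        _ = (C R + 1) * ∑ Q ∈ FS, (C Q - 1) := (Finset.mul_sum _ _ _).symm
        _ ≤ _ := Nat.mul_le_mul_left _ hbound
  refine ⟨Pi0, E, F, by omega, hP0', hE.1, hF.1, ?_⟩
  rcases hE.2 with h | h
  · rcases hF.2 with h' | h'
    · exact Or.inl ⟨h, h'⟩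
    · exact Or.inr h'
  · exact Or.inr h

end CfsgLib.SelfThree29
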