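import Mathlib

/-!
# The arithmetic leading to the orders 60 and 168
-/

set_option autoImplicit false

namespace CfsgLib.SelfThree29.Numeric

/-- The largest even order of a subgroup not normalized by the inverter allowed by `c`. -/
def eBound (c P : ℕ) : ℕ :=
  if P % 3 = 1 then
    2 * (((List.range (c + 1)).filter fun q =>
      decide (c % q = 0 ∧ q % 3 = 1 ∧ q % 2 = 0 ∧ q % P = 0)).foldr max 0 - 1)
  else 0

/-- The bound for the subgroups normalized by the inverter. -/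
def fBound (c : ℕ) : ℕ :=
  let C := ([2, 4, 6, 8, 10, 12].filter fun C => decide (c % (2 * C * C) = 0)).foldr max 0
  if C = 0 then 0 else (C + 1) * (c - 2)

/-- The numerical test. -/
def test (c k i : ℕ) : Bool :=
  let d := i + c / k - 14
  let j := if 14 ≤ i then i - 14 else 13 - i
  let g := 3 * k * k * d * (d + 1)
  let P := Nat.gcd c 512
  let m := g / (3 * P)
  let O := if m % 3 = 2 then m / 5 else m
  decide (4 ≤ d ∧ d % 3 = 1 ∧ 2 * j * (j + 1) + 2 ≤ c ∧ 56 ≤ 4 * i + c / k ∧ g % (3 * P) = 0 ∧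
    m % 2 = 1 ∧ (g / 3) % 3 = 2 ∧
    k * k * (d * d + d + 1) ≤ 3 * (1 + 2 * (O - 1) + eBound c P + fBound c) →
      g = 60 ∨ g = 168)

/-- The table. -/
def table : Bool :=
  ((List.range 350).filter fun c => decide (c % 4 = 0 ∧ c % 3 ≠ 0)).all fun c =>
    ((List.range (c + 1)).filter fun k => decide (c % k = 0 ∧ 0 < k)).all fun k =>
      (List.range 28).all fun i => test c k i

theorem table_eq : table = true := by decide +kernel

theorem le_foldr_max {l : List ℕ} {a : ℕ} (h : a ∈ l) : a ≤ l.foldr max 0 := by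
  induction l with
  | nil => simp at h
  | cons b l ih =>
    rw [List.foldr_cons]
    rcases List.mem_cons.1 h with rfl | h
    · exact le_max_left _ _
    · exact (ih h).trans (le_max_right _ _)

theorem bound_aux {g W Pi0 E F c t : ℕ} (hgW : g < 9 * W) (hO : 24 * Pi0 ≤ g)
    (hb : W ≤ 1 + 2 * (Pi0 - 1) + E + F) (hE : E ≤ 2 * c) (hF : F ≤ t + c) :
    g < 36 + 108 * c + 36 * t := by
  omega

theorem bound_aux_zero {g W Pi0 : ℕ} (hgW : g < 9 * W) (hO : 24 * Pi0 ≤ g) (hpos : 0 < Pi0)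
    (hb : W ≤ 1 + 2 * (Pi0 - 1) + 0 + 0) : False := by
  omega

theorem bound_aux_lin {g c C : ℕ} (hc : 4 ≤ c) (h27 : 27 * c ^ 2 < 16 * g)
    (h1 : g < 36 + 108 * c + 36 * (C * c)) : 3 * c < 208 + 64 * C := by
  by_contra hle
  push Not at hle
  nlinarith [Nat.mul_le_mul_left (9 * c) hle]

theorem bound_aux_C {c C : ℕ} (hC : 2 * C ^ 2 ≤ c) (h : 3 * c < 208 + 64 * C) :
    C ≤ 13 ∧ c < 350 := by
  have : C ≤ 13 := by
    by_contra hlt
    push Not at hlt
    nlinarith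
  omega

theorem bound_aux_a {a : ℤ} (h : 2 * a * a + 2 * a + 2 ≤ 349) : -14 ≤ a ∧ a ≤ 13 := by
  constructor
  · by_contra hlt
    push Not at hlt
    nlinarith [mul_le_mul_of_nonpos_left (show a ≤ -15 by omega) (show a ≤ 0 by omega)]
  · by_contra hlt
    push Not at hlt
    nlinarith [mul_le_mul_of_nonneg_left (show 14 ≤ a by omega) (show 0 ≤ a by omega)]

theorem bound_aux_g {g W : ℕ} {d : ℤ} (hg : 0 < g) (hd : 0 < d * (d + 1))
    (hW : 9 * (W : ℤ) * (d * (d + 1)) = (g : ℤ) * (d * d + d + 1)) :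
    (g : ℤ) < 9 * (W : ℤ) := by
  refine lt_of_mul_lt_mul_right ?_ hd.le
  rw [hW]
  have : (0 : ℤ) < g := by exact_mod_cast hg
  linarith [show (g : ℤ) * (d * d + d + 1) = (g : ℤ) * (d * (d + 1)) + g by ring]

theorem bound_aux_c {g c : ℕ} {d δ : ℤ} (hc : 0 < c) (hd : 0 < d) (hδ : 0 < δ)
    (h3 : 3 * δ ≤ 4 * d) (hord : (g : ℤ) * δ ^ 2 = 3 * (c : ℤ) ^ 2 * (d * (d + 1))) :
    27 * (c : ℤ) ^ 2 < 16 * (g : ℤ) := by
  refine lt_of_mul_lt_mul_right ?_ (sq_nonneg δ)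
  rw [mul_assoc 16, hord]
  have hc' : (0 : ℤ) < (c : ℤ) ^ 2 := pow_pos (by exact_mod_cast hc) 2
  have h1 : (3 * δ) ^ 2 ≤ (4 * d) ^ 2 := pow_le_pow_left₀ (by omega) h3 2
  have h2 := mul_le_mul_of_nonneg_left h1 hc'.le
  have h3 := mul_pos hc' hd
  linarith [show (c : ℤ) ^ 2 * (3 * δ) ^ 2 = 9 * ((c : ℤ) ^ 2 * δ ^ 2) by ring,
    show (c : ℤ) ^ 2 * (4 * d) ^ 2 = 16 * ((c : ℤ) ^ 2 * (d * d)) by ring,
    show 16 * (3 * (c : ℤ) ^ 2 * (d * (d + 1))) =
      48 * ((c : ℤ) ^ 2 * (d * d)) + 48 * ((c : ℤ) ^ 2 * d) by ring,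
    show 27 * (c : ℤ) ^ 2 * δ ^ 2 = 27 * ((c : ℤ) ^ 2 * δ ^ 2) by ring]

theorem order_eq {g c W P m Pi0 E F : ℕ} {d a : ℤ} (hd3 : d % 3 = 1) (hd4 : 4 ≤ d) (had : a < d)
    (hsq : 2 * a * a + 2 * a + 2 ≤ (c : ℤ)) (hkl' : (E = 0 ∧ F = 0) ∨ 0 ≤ d + 3 * a)
    (hord : (g : ℤ) * (d - a) ^ 2 = 3 * (c : ℤ) ^ 2 * (d * (d + 1)))
    (hW : 9 * (W : ℤ) * (d * (d + 1)) = (g : ℤ) * (d * d + d + 1))
    (hc3 : ¬ 3 ∣ c) {e : ℕ} (hP : P = 2 ^ e) (he : 2 ≤ e) (hg : g = 3 * P * m) (hm : m % 2 = 1)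
    (hPc : P ∣ c) (hcg : c ∣ g) (hmod : (g / 3) % 3 = 2) (hb : W ≤ 1 + 2 * (Pi0 - 1) + E + F)
    (hPi : Pi0 ∣ g ∧ Odd Pi0 ∧ Pi0 % 3 = 1)
    (hE : E = 0 ∨ ∃ q, E = 2 * (q - 1) ∧ q ∣ c ∧ q % 3 = 1 ∧ 2 ∣ q ∧ P ∣ q ∧ P % 3 = 1)
    (hF : F = 0 ∨ ∃ C, 2 ≤ C ∧ Even C ∧ 2 * C ^ 2 ∣ c ∧ F = (C + 1) * (c - 2)) :
    (g = 60 ∨ g = 168) ∧ 0 ≤ d + 3 * a := by
  have hc0 : 0 < c := Nat.pos_of_ne_zero fun h => hc3 (h ▸ dvd_zero 3)
  obtain ⟨hPig, hPiodd, hPi3⟩ := hPi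
  -- the divisor of the order
  have hPim : Pi0 ∣ m := by
    rw [hg, hP] at hPig
    refine Nat.Coprime.dvd_of_dvd_mul_left ?_ hPig
    refine Nat.Coprime.mul_right ((Nat.prime_three.coprime_iff_not_dvd.2 ?_).symm)
      ((Nat.coprime_two_right.2 hPiodd).pow_right e)
    omega
  have hP4 : 4 ∣ P := hP ▸ (show (4 : ℕ) = 2 ^ 2 by norm_num) ▸ pow_dvd_pow 2 he
  have hg3 : g / 3 = P * m := by rw [hg, mul_assoc, Nat.mul_div_cancel_left _ (by norm_num)]
  have hm0 : 0 < m := by omega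
  have hO : Pi0 ≤ if m % 3 = 2 then m / 5 else m := by
    split_ifs with h
    · obtain ⟨r, rfl⟩ := hPim
      have hr2 : r % 2 = 1 := Nat.odd_iff.1 (Nat.odd_mul.1 (Nat.odd_iff.2 hm)).2
      have hr3 : r % 3 = 2 := by rw [Nat.mul_mod, hPi3, one_mul, Nat.mod_mod] at h; exact h
      rw [Nat.le_div_iff_mul_le (by norm_num)]
      exact Nat.mul_le_mul_left _ (show 5 ≤ r by omega)
    · exact Nat.le_of_dvd hm0 hPim
  have hO24 : 24 * Pi0 ≤ g := by
    rcases Nat.lt_or_ge P 8 with h | h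
    · have hP' : P = 4 := by
        obtain ⟨j, hj⟩ := hP4
        have : 0 < P := hP ▸ Nat.two_pow_pos e
        omega
      have : m % 3 = 2 := by rw [hg3, hP'] at hmod; omega
      rw [if_pos this] at hO
      rw [hg, hP']
      omega
    · calc 24 * Pi0 ≤ 24 * m := Nat.mul_le_mul_left _ (Nat.le_of_dvd hm0 hPim)
        _ ≤ 3 * P * m := Nat.mul_le_mul_right _ (by omega)
        _ = g := hg.symm
  have hEc : E ≤ 2 * c := by
    rcases hE with rfl | ⟨q, rfl, hq, -⟩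
    · omega
    · have := Nat.le_of_dvd hc0 hq
      omega
  obtain ⟨C, hC, hCF⟩ : ∃ C, 2 * C ^ 2 ≤ c ∧ F ≤ (C + 1) * c := by
    rcases hF with rfl | ⟨C, -, -, hC, rfl⟩
    · exact ⟨0, by simp, Nat.zero_le _⟩
    · exact ⟨C, Nat.le_of_dvd hc0 hC, Nat.mul_le_mul_left _ (Nat.sub_le _ _)⟩
  obtain ⟨δ, hδ⟩ : ∃ δ, δ = d - a := ⟨_, rfl⟩
  rw [← hδ] at hord
  have hδpos : 0 < δ := by omega
  have hdpos : 0 < d * (d + 1) := by positivity
  have hgW : (g : ℤ) < 9 * (W : ℤ) := bound_aux_g (Nat.pos_of_ne_zero fun h => by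
    rw [h] at hmod; simp at hmod) hdpos hW
  have hgW' : g < 9 * W := by exact_mod_cast hgW
  have hkl : 0 ≤ d + 3 * a := by
    refine hkl'.resolve_left fun h => ?_
    rw [h.1, h.2] at hb
    exact bound_aux_zero hgW' hO24 hPiodd.pos hb
  refine ⟨?_, hkl⟩
  have h27 : 27 * (c : ℤ) ^ 2 < 16 * (g : ℤ) :=
    bound_aux_c hc0 (by omega) hδpos (by omega) hord
  have h27' : 27 * c ^ 2 < 16 * g := by exact_mod_cast h27
  have hc4 : 4 ≤ c := Nat.le_of_dvd hc0 (hP4.trans hPc)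
  have hlin : 3 * c < 208 + 64 * C :=
    bound_aux_lin hc4 h27' (bound_aux hgW' hO24 hb hEc (hCF.trans (le_of_eq (by ring))))
  obtain ⟨hC13, hc342⟩ := bound_aux_C hC hlin
  -- the quotient
  have h3c : δ ^ 2 ∣ 3 * (c : ℤ) ^ 2 := by
    refine ⟨9 * (W : ℤ) - g, ?_⟩
    have : (δ ^ 2 * (9 * (W : ℤ) - g) - 3 * (c : ℤ) ^ 2) * (d * (d + 1)) = 0 := by
      linear_combination δ ^ 2 * hW + hord
    rcases mul_eq_zero.1 this with h | h
    · linarith
    · omega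
  obtain ⟨D, rfl⟩ : ∃ D : ℕ, δ = (D : ℤ) := ⟨δ.toNat, (Int.toNat_of_nonneg hδpos.le).symm⟩
  have hDc : D ∣ c := by
    have h := Int.natCast_dvd_natCast.1 (show ((D ^ 2 : ℕ) : ℤ) ∣ ((3 * c ^ 2 : ℕ) : ℤ) by
      push_cast; exact h3c)
    have hD3 : ¬ 3 ∣ D := by
      intro h3
      have h9 : 9 ∣ 3 * c ^ 2 := (show (9 : ℕ) = 3 ^ 2 by norm_num) ▸ (pow_dvd_pow_of_dvd h3 2).trans h
      exact hc3 (Nat.prime_three.dvd_of_dvd_pow (n := 2) (by omega))
    exact (Nat.pow_dvd_pow_iff two_ne_zero).1 (Nat.Coprime.dvd_of_dvd_mul_left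
      ((Nat.prime_three.coprime_iff_not_dvd.2 hD3).symm.pow_left 2) h)
  obtain ⟨k, hk⟩ := hDc
  have hk0 : 0 < k := Nat.pos_of_ne_zero fun h => by rw [h, mul_zero] at hk; omega
  have hck : c / k = D := by rw [hk, Nat.mul_div_cancel _ hk0]
  obtain ⟨dn, rfl⟩ : ∃ dn : ℕ, d = (dn : ℤ) := ⟨d.toNat, (Int.toNat_of_nonneg (by omega)).symm⟩
  have hgk : g = 3 * k * k * dn * (dn + 1) := by
    have : (g : ℤ) * (D : ℤ) ^ 2 = ((3 * k * k * dn * (dn + 1) : ℕ) : ℤ) * (D : ℤ) ^ 2 := by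
      rw [hord, hk]; push_cast; ring
    exact_mod_cast mul_right_cancel₀ (by positivity) this
  have hWk : 3 * W = k * k * (dn * dn + dn + 1) := by
    have : (3 * (W : ℤ)) * (3 * ((dn : ℤ) * (dn + 1))) =
        ((k * k * (dn * dn + dn + 1) : ℕ) : ℤ) * (3 * ((dn : ℤ) * (dn + 1))) := by
      push_cast
      rw [show (g : ℤ) = 3 * k * k * dn * (dn + 1) by exact_mod_cast hgk] at hW
      linear_combination hW
    have h0 : (3 * ((dn : ℤ) * (dn + 1))) ≠ 0 := by omega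
    exact_mod_cast mul_right_cancel₀ h0 this
  have hgcd : Nat.gcd c 512 = P := by
    have he8 : e ≤ 8 := by
      by_contra h
      have h1 : 2 ^ 9 ≤ P := hP ▸ Nat.pow_le_pow_right (by norm_num) (by omega)
      have h2 := Nat.le_of_dvd hc0 hPc
      norm_num at h1
      omega
    refine Nat.dvd_antisymm ?_ (Nat.dvd_gcd hPc (hP ▸ (show (512 : ℕ) = 2 ^ 9 by norm_num) ▸
      pow_dvd_pow 2 (by omega)))
    have h1 : Nat.gcd c 512 ∣ P * (3 * m) := by
      have : g = P * (3 * m) := by rw [hg]; ring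
      exact this ▸ (Nat.gcd_dvd_left c 512).trans hcg
    refine Nat.Coprime.dvd_of_dvd_mul_right ?_ h1
    refine Nat.Coprime.coprime_dvd_left (Nat.gcd_dvd_right c 512) ?_
    rw [show (512 : ℕ) = 2 ^ 9 by norm_num]
    exact Nat.Coprime.pow_left 9 ((Nat.coprime_primes Nat.prime_two Nat.prime_three).2 (by norm_num)
      |>.mul_right (Nat.coprime_two_left.2 (Nat.odd_iff.2 hm)))
  -- the value at an involution
  have ha1 : -14 ≤ a ∧ a ≤ 13 :=
    bound_aux_a (hsq.trans (by exact_mod_cast Nat.le_of_lt_succ hc342))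
  obtain ⟨i, hi⟩ : ∃ i : ℕ, (i : ℤ) = a + 14 := ⟨(a + 14).toNat, Int.toNat_of_nonneg (by omega)⟩
  have hi28 : i < 28 := by omega
  have hdn : i + c / k - 14 = dn := by rw [hck]; omega
  have hj : 2 * (if 14 ≤ i then i - 14 else 13 - i) *
      ((if 14 ≤ i then i - 14 else 13 - i) + 1) + 2 ≤ c := by
    split_ifs with h
    · obtain ⟨j, rfl⟩ := Nat.exists_eq_add_of_le h
      have : a = j := by push_cast at hi; omega
      subst this
      rw [Nat.add_sub_cancel_left]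
      have : ((2 * j * (j + 1) + 2 : ℕ) : ℤ) ≤ c := by push_cast; linarith only [hsq]
      exact_mod_cast this
    · obtain ⟨j, hj⟩ := Nat.exists_eq_add_of_le (show i ≤ 13 by omega)
      rw [hj, Nat.add_sub_cancel_left]
      have : a = -(j : ℤ) - 1 := by omega
      subst this
      have : ((2 * j * (j + 1) + 2 : ℕ) : ℤ) ≤ c := by push_cast; linarith only [hsq]
      exact_mod_cast this
  have htab := table_eq
  simp only [table, List.all_eq_true, List.mem_filter, List.mem_range, decide_eq_true_eq] at htab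
  have ht := htab c ⟨hc342, by
      have := hP4.trans hPc
      omega⟩ k ⟨by rw [hk]; exact Nat.lt_succ_of_le (Nat.le_mul_of_pos_left _ (by omega)),
      by rw [hk]; simp, hk0⟩ i hi28
  simp only [test, decide_eq_true_eq, hdn, hgcd, ← hgk] at ht
  refine ht ⟨by omega, by omega, hj, by rw [hck]; omega, ?_, ?_, hmod, ?_⟩
  · rw [hg]; simp
  · rw [hg, Nat.mul_div_cancel_left m (by have : 0 < P := hP ▸ Nat.two_pow_pos e; omega)]
    exact hm
  · rw [← hWk]
    refine Nat.mul_le_mul_left 3 (hb.trans ?_)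
    have hm' : g / (3 * P) = m := by
      rw [hg, Nat.mul_div_cancel_left m (by have : 0 < P := hP ▸ Nat.two_pow_pos e; omega)]
    rw [hm']
    have h1 : E ≤ eBound c P := by
      rcases hE with rfl | ⟨q, rfl, hq, hq3, hq2, hqP, hP3⟩
      · exact Nat.zero_le _
      · rw [eBound, if_pos hP3]
        refine Nat.mul_le_mul_left 2 (Nat.sub_le_sub_right (le_foldr_max ?_) 1)
        simp only [List.mem_filter, List.mem_range, decide_eq_true_eq]
        exact ⟨Nat.lt_succ_of_le (Nat.le_of_dvd hc0 hq), Nat.mod_eq_zero_of_dvd hq, hq3,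
          Nat.mod_eq_zero_of_dvd hq2, Nat.mod_eq_zero_of_dvd hqP⟩
    have h2 : F ≤ fBound c := by
      rcases hF with rfl | ⟨C', hC2, hCe, hCd, rfl⟩
      · exact Nat.zero_le _
      · have hC' : C' ≤ 13 := by
          have := Nat.le_of_dvd hc0 hCd
          nlinarith
        have hmem : C' ∈ ([2, 4, 6, 8, 10, 12].filter fun C => decide (c % (2 * C * C) = 0)) := by
          simp only [List.mem_filter, decide_eq_true_eq]
          refine ⟨?_, Nat.mod_eq_zero_of_dvd (by rwa [mul_assoc, ← sq])⟩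
          obtain ⟨j, rfl⟩ := hCe
          simp
          omega
        have hle := le_foldr_max hmem
        simp only [fBound]
        rw [if_neg (by omega)]
        exact Nat.mul_le_mul_right _ (by omega)
    exact Nat.add_le_add (Nat.add_le_add
      (Nat.add_le_add_left (Nat.mul_le_mul_left 2 (Nat.sub_le_sub_right hO 1)) 1) h1) h2

end CfsgLib.SelfThree29.Numeric
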