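import Cfsg.Agent.Lib.SelfThree29.Chars
import Cfsg.Agent.Lib.SelfThree29.Count
import Cfsg.Agent.Lib.SelfThree29.Numeric

/-!
# Simple groups with a self-centralizing element of order three
-/

set_option autoImplicit false

namespace CfsgLib.SelfThree29

open Subgroup

universe u

theorem card_order_three {G : Type u} [Group G] [Finite G] {x : G} (hx : SC3 x) {s : G}
    (hs : s * x * s⁻¹ = x⁻¹) : (Nat.card G / 3) % 3 = 2 := by
  classical
  have : Fintype G := Fintype.ofFinite G
  have : Fact (Nat.Prime 3) := ⟨Nat.prime_three⟩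
  have hiff : ∀ u, IsConj x u ↔ orderOf u = 3 := fun u => by
    constructor
    · intro h
      obtain ⟨g, hg⟩ := isConj_iff.1 h
      rw [← hg, orderOf_cj]; exact hx.ord
    · intro h
      obtain ⟨g, hg | hg⟩ := hx.exists_conj h
      · exact isConj_iff.2 ⟨g, hg⟩
      · exact (isConj_iff.2 ⟨s, hs⟩).trans (isConj_iff.2 ⟨g, hg⟩)
  have hcent : Nat.card (centralizer ({x} : Set G)) = 3 := by
    have : centralizer ({x} : Set G) = zpowers x := by
      refine le_antisymm (fun g hg => hx.cent g (mem_centralizer_singleton_iff.1 hg)) ?_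
      rw [zpowers_le, mem_centralizer_singleton_iff]
    rw [this, hx.card_zpowers]
  have h1 := CfsgLib.Characters.card_isConj_mul_card_centralizer x
  rw [hcent, Nat.card_congr (Equiv.subtypeEquivRight hiff)] at h1
  rw [← h1, Nat.mul_div_cancel _ (by norm_num)]
  let f : Function.End {u : G // orderOf u = 3} := fun u =>
    ⟨x * (u : G) * x⁻¹, by rw [orderOf_cj]; exact u.2⟩
  have hf : f ^ 3 ^ 1 = 1 := funext fun u => Subtype.ext (hx.conj_three (u : G))
  have h := Equiv.Perm.card_fixedPoints_modEq hf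
  have hxi : orderOf x⁻¹ = 3 := by rw [orderOf_inv]; exact hx.ord
  have hfix : Fintype.card f.fixedPoints = 2 := by
    have e : f.fixedPoints ≃ Bool :=
      { toFun := fun u => decide (((u : {u : G // orderOf u = 3}) : G) = x)
        invFun := fun b => cond b ⟨⟨x, hx.ord⟩, Subtype.ext (show x * x * x⁻¹ = x by group)⟩
          ⟨⟨x⁻¹, hxi⟩, Subtype.ext (show x * x⁻¹ * x⁻¹ = x⁻¹ by group)⟩
        left_inv := by
          rintro ⟨⟨u, hu⟩, hfu⟩
          have hfu' : x * u * x⁻¹ = u := congrArg Subtype.val hfu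
          rcases hx.mem_zpowers_cases.1 (hx.cent u (mul_inv_eq_iff_eq_mul.1 hfu').symm) with
            e | e | e
          · rw [e, orderOf_one] at hu; omega
          · simp [e]
          · simp [e, hx.inv_ne]
        right_inv := fun b => by cases b <;> simp [hx.inv_ne] }
    rw [Fintype.card_congr e, Fintype.card_bool]
  rw [hfix, ← Nat.card_eq_fintype_card] at h
  exact h

theorem four_dvd_card {G : Type u} [Group G] [Finite G] [IsSimpleGroup G]
    (hbig : 6 < Nat.card G) (h2 : 2 ∣ Nat.card G) : 2 ≤ (Nat.card G).factorization 2 := by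
  have : Fact (Nat.Prime 2) := ⟨Nat.prime_two⟩
  have h1 : 1 ≤ (Nat.card G).factorization 2 :=
    Nat.prime_two.factorization_pos_of_dvd Nat.card_pos.ne' h2
  by_contra hlt
  obtain ⟨P⟩ := (inferInstance : Nonempty (Sylow 2 G))
  have hP : Nat.card P = 2 := by
    rw [P.card_eq_multiplicity, show (Nat.card G).factorization 2 = 1 by omega]
    norm_num
  have hNC : normalizer ((P : Subgroup G) : Set G) ≤ centralizer ((P : Subgroup G) : Set G) := by
    intro n hn t ht
    have ht' : t ∈ (P : Subgroup G) := ht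
    have hnt : n * t * n⁻¹ ∈ (P : Subgroup G) := (Subgroup.mem_normalizer_iff.1 hn t).1 ht'
    obtain ⟨a, b, hab, huniv⟩ := Nat.card_eq_two_iff.1 hP
    by_cases ht1 : t = 1
    · simp [ht1]
    have key : ∀ w : (P : Subgroup G), (w : G) ≠ 1 → w = ⟨t, ht'⟩ := by
      intro w hw
      have e1 : ∀ v : (P : Subgroup G), v = a ∨ v = b := fun v => by
        have : v ∈ ({a, b} : Set (P : Subgroup G)) := huniv ▸ Set.mem_univ v
        simpa using this
      rcases e1 w with rfl | rfl <;> rcases e1 ⟨t, ht'⟩ with h | h <;>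
        rcases e1 1 with h' | h' <;> first
          | exact h.symm
          | exact absurd (congrArg Subtype.val h').symm hw
          | exact absurd (congrArg Subtype.val (h.trans h'.symm)) ht1
    have := congrArg Subtype.val (key ⟨_, hnt⟩ fun e => ht1 (by
      calc t = n⁻¹ * (n * t * n⁻¹) * n := by group
        _ = 1 := by rw [show n * t * n⁻¹ = 1 from e]; group))
    exact (mul_inv_eq_iff_eq_mul.1 this).symm
  have hcompl := MonoidHom.ker_transferSylow_isComplement' P hNC
  have hc := hcompl.card_mul_card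
  rcases (MonoidHom.normal_ker (MonoidHom.transferSylow P hNC)).eq_bot_or_eq_top with h | h
  · rw [h, card_bot, hP] at hc; omega
  · rw [h, card_top, hP] at hc; omega

/-- A simple group with a self-centralizing element of order three has order 60 or 168. -/
theorem good_aux : ∀ (n : ℕ) (G : Type u) [Group G] [Finite G], IsSimpleGroup G → Nat.card G = n →
    ∀ x : G, SC3 x → 6 < Nat.card G → Good G := by
  intro n
  induction n using Nat.strong_induction_on with
  | _ n IH =>
  intro G _ _ hsimp hn x hx hbig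
  have ih : SmallerGood G := fun H _ _ hH hlt y hy h6 => IH _ (hn ▸ hlt) H hH rfl y hy h6
  obtain ⟨s, hs⟩ : ∃ s, s * x * s⁻¹ = x⁻¹ := by
    have hred : ∀ M : Subgroup G, M.Normal → ¬ 3 ∣ Nat.card M → M = ⊥ := fun M hM h3 =>
      hM.eq_bot_or_eq_top.resolve_right fun h => hx.not_mem h3 (h ▸ mem_top x)
    rcases hx.reduced_cases hred with h | ⟨h, -⟩ | ⟨-, -, h⟩
    · omega
    · omega
    · exact h
  obtain ⟨d, a, hA⟩ := hx.exists_arith hs hbig
  obtain ⟨Pi0, E, F, hW, hPi, hE, hF, hk⟩ := exists_bound hx ih hs hA.isConj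
  have hs2 := hx.orderOf_inverter hs
  set g := Nat.card G with hg
  set c := Nat.card (centralizer ({s} : Set G)) with hc
  have hc3 : ¬ 3 ∣ c := by
    intro h
    have : Fact (Nat.Prime 3) := ⟨Nat.prime_three⟩
    obtain ⟨⟨w, hw⟩, hwo⟩ := exists_prime_orderOf_dvd_card' 3 h
    rw [orderOf_mk] at hwo
    have hwx := hx.of_orderOf hwo
    have hsw := hwx.cent s (mem_centralizer_singleton_iff.1 hw).symm
    have h3 := orderOf_dvd_of_mem_zpowers hsw
    rw [hs2, hwo] at h3
    norm_num at h3
  have : Fact (Nat.Prime 2) := ⟨Nat.prime_two⟩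
  set e := g.factorization 2 with he
  have h2g : 2 ∣ g := hs2 ▸ orderOf_dvd_natCard s
  have he2 : 2 ≤ e := four_dvd_card hbig h2g
  have h3g : 3 ∣ g := hx.ord ▸ orderOf_dvd_natCard x
  have hPg : 2 ^ e ∣ g := Nat.ordProj_dvd g 2
  have h3P : 3 * 2 ^ e ∣ g :=
    Nat.Coprime.mul_dvd_of_dvd_of_dvd (Nat.Coprime.pow_right e (by norm_num)) h3g hPg
  obtain ⟨m, hm⟩ := h3P
  have hmodd : m % 2 = 1 := by
    by_contra h
    have h2m : 2 ∣ m := by omega
    have : 2 ^ (e + 1) ∣ g := by
      rw [hm, pow_succ, mul_assoc]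
      exact Dvd.dvd.mul_left (mul_dvd_mul_left _ h2m) 3
    exact Nat.pow_succ_factorization_not_dvd Nat.card_pos.ne' Nat.prime_two this
  have hPc : 2 ^ e ∣ c := by
    obtain ⟨P⟩ := (inferInstance : Nonempty (Sylow 2 G))
    have hPcard : Nat.card P = 2 ^ e := P.card_eq_multiplicity
    have : Nontrivial (P : Subgroup G) := by
      rw [← Finite.one_lt_card_iff_nontrivial, hPcard]
      exact Nat.one_lt_two_pow (by omega)
    have hcn := P.isPGroup'.center_nontrivial
    have hcp : IsPGroup 2 (center (P : Subgroup G)) := P.isPGroup'.to_subgroup _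
    have h2 : 2 ∣ Nat.card (center (P : Subgroup G)) := by
      obtain ⟨j, hj⟩ := IsPGroup.iff_card.1 hcp
      rcases Nat.eq_zero_or_pos j with rfl | hpos
      · exact absurd (Finite.one_lt_card_iff_nontrivial.2 hcn) (by rw [hj]; norm_num)
      · exact hj ▸ dvd_pow_self 2 hpos.ne'
    obtain ⟨⟨⟨z, hzP⟩, hzc⟩, hzo⟩ := exists_prime_orderOf_dvd_card' 2 h2
    rw [orderOf_mk, orderOf_mk] at hzo
    rw [hc, CfsgLib.ThreeSelfCentral.card_centralizer_of_isConj (hA.isConj z hzo), ← hPcard]
    exact card_dvd_of_le fun q hq => mem_centralizer_singleton_iff.2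
      (congrArg Subtype.val (mem_center_iff.1 hzc ⟨q, hq⟩))
  have hmod : (g / 3) % 3 = 2 := card_order_three hx hs
  have hres := Numeric.order_eq (g := g) (c := c) (P := 2 ^ e) (m := m) hA.d_mod hA.d_ge hA.a_lt
    hA.sq_le (hk.imp id fun ⟨u, v, hu, hv, hne, huv⟩ => hA.klein u v hu hv hne huv) hA.order
    hA.pairs hc3 rfl he2 hm hmodd hPc (card_subgroup_dvd_card _) hmod hW hPi hE hF
  exact ⟨hres.1, hA.alt hres.2⟩

/-- A simple group with a self-centralizing element of order three has order 60 or 168. -/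
theorem SC3.good {G : Type u} [Group G] [Finite G] [IsSimpleGroup G] {x : G} (hx : SC3 x)
    (hbig : 6 < Nat.card G) : Good G :=
  good_aux _ G inferInstance rfl x hx hbig

/-- A group of order six which is not commutative is the symmetric group of degree three. -/
theorem nonempty_mulEquiv_perm_three {H : Type u} [Group H] [Finite H] (h6 : Nat.card H = 6)
    {x : H} (hx : SC3 x) {s : H} (hs : s * x * s⁻¹ = x⁻¹) :
    Nonempty (H ≃* Equiv.Perm (Fin 3)) := by
  classical
  set K := zpowers s
  have hK : Nat.card K = 2 := by rw [Nat.card_zpowers, hx.orderOf_inverter hs]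
  have hidx : K.index = 3 := by
    have := card_mul_index K
    rw [hK, h6] at this
    omega
  have hcardQ : Nat.card (H ⧸ K) = 3 := hidx
  let e : H ⧸ K ≃ Fin 3 := Finite.equivFinOfCardEq hcardQ
  let f : H →* Equiv.Perm (Fin 3) :=
    e.permCongrHom.toMonoidHom.comp (MulAction.toPermHom H (H ⧸ K))
  have hinj : Function.Injective f := by
    apply e.permCongrHom.injective.comp
    rw [← MonoidHom.ker_eq_bot_iff, ← Subgroup.normalCore_eq_ker, eq_bot_iff]
    intro w hw
    have hwK : w ∈ K := K.normalCore_le hw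
    have hcw : x * w * x⁻¹ ∈ K :=
      K.normalCore_le ((normalCore_normal K).conj_mem w hw x)
    have hKc : ∀ v ∈ K, v = 1 ∨ v = s := by
      intro v hv
      obtain ⟨j, rfl⟩ := hv
      show s ^ j = 1 ∨ s ^ j = s
      rcases Int.even_or_odd j with ⟨i, rfl⟩ | ⟨i, rfl⟩
      · left; rw [zpow_add, ← (Commute.refl s).mul_zpow, hx.inverter_mul_self hs, one_zpow]
      · right
        rw [zpow_add, zpow_one, two_mul, zpow_add, ← (Commute.refl s).mul_zpow,
          hx.inverter_mul_self hs, one_zpow, one_mul]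
    rcases hKc w hwK with rfl | rfl
    · exact one_mem _
    · exfalso
      rcases hKc _ hcw with h | h
      · exact hx.inverter_ne_one hs (by
          calc w = x⁻¹ * (x * w * x⁻¹) * x := by group
            _ = 1 := by rw [h]; group)
      · apply hx.inv_ne
        rw [← hs]
        calc w * x * w⁻¹ = (x * w * x⁻¹) * x * w⁻¹ := by rw [h]
          _ = x := by group
  exact ⟨MulEquiv.ofBijective f ((Nat.bijective_iff_injective_and_card f).2
    ⟨hinj, by rw [h6, Nat.card_perm, Nat.card_fin]; rfl⟩)⟩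

end CfsgLib.SelfThree29
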