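import Cfsg.Agent.Lib.SelfThree29.Fpf
import Cfsg.Agent.Lib.Frobenius.FPFThompson

/-!
# A self-centralizing element of order three: elementary structure

`SC3 x` says that `x` has order three and generates its own centralizer.  The property passes to
subgroups and to quotients by normal `3'`-subgroups; a group with no nontrivial normal
`3'`-subgroup has order at most six or is simple with an inverter of `x`.
-/

set_option autoImplicit false

namespace CfsgLib.SelfThree29

open Subgroup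
open scoped Pointwise

variable {G : Type*} [Group G]

theorem orderOf_cj (g x : G) : orderOf (g * x * g⁻¹) = orderOf x :=
  (MulAut.conj g).orderOf_eq x

/-- `x` has order three and generates its own centralizer. -/
structure SC3 (x : G) : Prop where
  ord : orderOf x = 3
  cent : ∀ g : G, g * x = x * g → g ∈ zpowers x

namespace SC3

variable {x : G} (hx : SC3 x)
include hx

theorem cube : x ^ 3 = 1 := hx.ord ▸ pow_orderOf_eq_one x

theorem mul_self : x * x = x⁻¹ :=
  eq_inv_of_mul_eq_one_left (by rw [← hx.cube, pow_succ, pow_succ, pow_one, mul_assoc])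

theorem ne_one : x ≠ 1 := fun e => by have := hx.ord; rw [e, orderOf_one] at this; omega

theorem inv_ne : x⁻¹ ≠ x := fun e => by
  have h2 : x ^ 2 = 1 := by rw [sq]; nth_rewrite 1 [← e]; exact inv_mul_cancel x
  have := orderOf_dvd_of_pow_eq_one h2
  rw [hx.ord] at this
  norm_num at this

theorem mul3 (g : G) : x * (x * (x * g)) = g := by
  rw [← mul_assoc, ← mul_assoc, hx.mul_self, inv_mul_cancel, one_mul]

theorem mem_zpowers_cases {g : G} : g ∈ zpowers x ↔ g = 1 ∨ g = x ∨ g = x⁻¹ := by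
  constructor
  · rintro ⟨k, rfl⟩
    show x ^ k = 1 ∨ x ^ k = x ∨ x ^ k = x⁻¹
    rw [← zpow_mod_orderOf, hx.ord]
    have h0 : 0 ≤ k % ((3 : ℕ) : ℤ) := Int.emod_nonneg _ (by norm_num)
    have h3 : k % ((3 : ℕ) : ℤ) < 3 := Int.emod_lt_of_pos _ (by norm_num)
    generalize k % ((3 : ℕ) : ℤ) = j at *
    interval_cases j
    · left; simp
    · right; left; simp
    · right; right; rw [← hx.mul_self]; exact (zpow_two x)
  · rintro (rfl | rfl | rfl)
    · exact one_mem _
    · exact mem_zpowers _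
    · exact inv_mem (mem_zpowers _)

theorem card_zpowers : Nat.card (zpowers x) = 3 := by rw [Nat.card_zpowers, hx.ord]

theorem inv : SC3 x⁻¹ := by
  refine ⟨by rw [orderOf_inv]; exact hx.ord, fun g h => ?_⟩
  rw [zpowers_inv]
  exact hx.cent g (Commute.inv_right_iff.1 h)

theorem map_conj (g : G) : SC3 (g * x * g⁻¹) := by
  refine ⟨by rw [orderOf_cj]; exact hx.ord, fun h hh => ?_⟩
  obtain ⟨k, hk⟩ := hx.cent (g⁻¹ * h * g) (by
    calc g⁻¹ * h * g * x = g⁻¹ * (h * (g * x * g⁻¹)) * g := by group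
      _ = g⁻¹ * (g * x * g⁻¹ * h) * g := by rw [hh]
      _ = _ := by group)
  refine ⟨k, ?_⟩
  have hk' : x ^ k = g⁻¹ * h * g := hk
  show (g * x * g⁻¹) ^ k = h
  rw [conj_zpow, hk']
  group

theorem not_nine_dvd [Finite G] : ¬ 9 ∣ Nat.card G := by
  intro h9
  have : Fact (Nat.Prime 3) := ⟨Nat.prime_three⟩
  have hP0 : IsPGroup 3 (zpowers x) := IsPGroup.of_card (n := 1) (by rw [hx.card_zpowers]; norm_num)
  obtain ⟨P, hP⟩ := hP0.exists_le_sylow
  have h9P : 9 ∣ Nat.card P := by
    rw [Sylow.card_eq_multiplicity]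
    calc 9 = 3 ^ 2 := by norm_num
      _ ∣ _ := pow_dvd_pow 3 ((Nat.prime_three.pow_dvd_iff_le_factorization Nat.card_pos.ne').1 h9)
  have : Nontrivial (P : Subgroup G) := by
    rw [← Finite.one_lt_card_iff_nontrivial]
    exact Nat.lt_of_lt_of_le (by norm_num) (Nat.le_of_dvd Nat.card_pos h9P)
  have := P.isPGroup'.center_nontrivial
  obtain ⟨⟨z, hz⟩, hz1⟩ := exists_ne (1 : center (P : Subgroup G))
  have hxP : x ∈ (P : Subgroup G) := hP (mem_zpowers x)
  have hzc : ∀ p ∈ (P : Subgroup G), (z : G) * p = p * z := fun p hp =>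
    (congrArg Subtype.val (mem_center_iff.1 hz ⟨p, hp⟩)).symm
  have hz1' : (z : G) ≠ 1 := fun e => hz1 (Subtype.ext (Subtype.ext e))
  have hzx : (z : G) = x ∨ (z : G) = x⁻¹ := by
    rcases hx.mem_zpowers_cases.1 (hx.cent _ (hzc x hxP)) with h | h | h
    · exact absurd h hz1'
    · exact Or.inl h
    · exact Or.inr h
  have hle : (P : Subgroup G) ≤ zpowers x := fun p hp => by
    refine hx.cent p ?_
    rcases hzx with h | h
    · rw [← h]; exact (hzc p hp).symm
    · rw [show x = (z : G)⁻¹ by rw [h, inv_inv]]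
      exact (Commute.inv_right (hzc p hp).symm).eq
  have := Nat.le_of_dvd Nat.card_pos (h9P.trans (card_dvd_of_le hle))
  rw [hx.card_zpowers] at this
  omega

theorem card_sylow [Finite G] [Fact (Nat.Prime 3)] (P : Sylow 3 G) : Nat.card P = 3 := by
  rw [Sylow.card_eq_multiplicity]
  have h3 : 3 ∣ Nat.card G := hx.ord ▸ orderOf_dvd_natCard x
  have h1 : 1 ≤ (Nat.card G).factorization 3 :=
    Nat.prime_three.factorization_pos_of_dvd Nat.card_pos.ne' h3
  have h2 : (Nat.card G).factorization 3 < 2 := by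
    by_contra h
    exact hx.not_nine_dvd ((show (9 : ℕ) = 3 ^ 2 by norm_num) ▸
      (pow_dvd_pow 3 (not_lt.1 h)).trans (Nat.ordProj_dvd _ _))
  rw [show (Nat.card G).factorization 3 = 1 by omega, pow_one]

theorem exists_conj [Finite G] {y : G} (hy : orderOf y = 3) :
    ∃ g, g * x * g⁻¹ = y ∨ g * x⁻¹ * g⁻¹ = y := by
  have : Fact (Nat.Prime 3) := ⟨Nat.prime_three⟩
  let mk : ∀ z : G, orderOf z = 3 → Sylow 3 G := fun z hz =>
    Sylow.ofCard (zpowers z) (by
      rw [Nat.card_zpowers, hz]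
      obtain ⟨P⟩ := (inferInstance : Nonempty (Sylow 3 G))
      rw [← Sylow.card_eq_multiplicity P, hx.card_sylow P])
  obtain ⟨g, hg⟩ := MulAction.exists_smul_eq G (mk x hx.ord) (mk y hy)
  have hg' := congrArg (fun P : Sylow 3 G => (P : Subgroup G)) hg
  simp only [mk, Sylow.coe_subgroup_smul, Sylow.coe_ofCard] at hg'
  have hy' : y ∈ MulAut.conj g • zpowers x := by rw [hg']; exact mem_zpowers y
  rw [mem_pointwise_smul_iff_inv_smul_mem, hx.mem_zpowers_cases] at hy'
  simp only [MulAut.smul_def, ← map_inv, MulAut.conj_apply, inv_inv] at hy'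
  refine ⟨g, ?_⟩
  rcases hy' with h | h | h
  · exfalso
    have : y = 1 := by
      calc y = g * (g⁻¹ * y * g) * g⁻¹ := by group
        _ = 1 := by rw [h]; group
    rw [this, orderOf_one] at hy
    omega
  · left; rw [← h]; group
  · right; rw [← h]; group

theorem of_orderOf [Finite G] {y : G} (hy : orderOf y = 3) : SC3 y := by
  obtain ⟨g, h | h⟩ := hx.exists_conj hy
  · exact h ▸ hx.map_conj g
  · exact h ▸ hx.inv.map_conj g

theorem subgroup {L : Subgroup G} (hxL : x ∈ L) : SC3 (⟨x, hxL⟩ : L) := by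
  refine ⟨by rw [orderOf_mk]; exact hx.ord, fun g hg => ?_⟩
  obtain ⟨k, hk⟩ := hx.cent g (congrArg Subtype.val hg)
  exact ⟨k, Subtype.ext hk⟩

theorem not_mem {N : Subgroup G} (h3 : ¬ 3 ∣ Nat.card N) : x ∉ N := fun h =>
  h3 (hx.ord ▸ (orderOf_mk x h).symm ▸ orderOf_dvd_natCard (⟨x, h⟩ : N))

theorem eq_one_of_commute {N : Subgroup G} (h3 : ¬ 3 ∣ Nat.card N) {n : G} (hn : n ∈ N)
    (hc : n * x = x * n) : n = 1 := by
  rcases hx.mem_zpowers_cases.1 (hx.cent n hc) with h | h | h
  · exact h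
  · exact absurd (h ▸ hn) (hx.not_mem h3)
  · exact absurd (inv_mem_iff.1 (h ▸ hn)) (hx.not_mem h3)

theorem isNilpotent [Finite G] {N : Subgroup G} (hxN : x ∈ normalizer (N : Set G))
    (h3 : ¬ 3 ∣ Nat.card N) : Group.IsNilpotent N :=
  CfsgLib.Frobenius.Thompson.isNilpotent_of_element N hxN Nat.prime_three hx.cube
    fun _ hk h => hx.eq_one_of_commute h3 hk h.symm

/-- All elements of order three of a coset `x N` are conjugate under `N`. -/
theorem exists_conj_eq [Finite G] (N : Subgroup G) [N.Normal] (h3 : ¬ 3 ∣ Nat.card N) {y : G}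
    (hy : x⁻¹ * y ∈ N) : ∃ n ∈ N, n * x * n⁻¹ = y := by
  have hN := (inferInstance : N.Normal)
  let f : N → N := fun n =>
    ⟨x⁻¹ * ((n : G) * x * (n : G)⁻¹), by
      have h1 : x⁻¹ * (n : G) * x ∈ N := by simpa using hN.conj_mem _ n.2 x⁻¹
      simpa [mul_assoc] using mul_mem h1 (inv_mem n.2)⟩
  have hinj : Function.Injective f := by
    intro a b e
    have e' : (a : G) * x * (a : G)⁻¹ = (b : G) * x * (b : G)⁻¹ :=
      mul_left_cancel (congrArg Subtype.val e)
    have h := hx.eq_one_of_commute h3 (mul_mem (inv_mem b.2) a.2)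
      (calc (b : G)⁻¹ * a * x = (b : G)⁻¹ * ((a : G) * x * (a : G)⁻¹) * a := by group
        _ = (b : G)⁻¹ * ((b : G) * x * (b : G)⁻¹) * a := by rw [e']
        _ = _ := by group)
    exact Subtype.ext (eq_of_inv_mul_eq_one h).symm
  obtain ⟨n, hn⟩ := (Finite.injective_iff_surjective.1 hinj) ⟨_, hy⟩
  exact ⟨n, n.2, mul_left_cancel (congrArg Subtype.val hn)⟩

theorem quotient [Finite G] (N : Subgroup G) [N.Normal] (h3 : ¬ 3 ∣ Nat.card N) :
    SC3 (x : G ⧸ N) := by
  refine ⟨?_, fun g hg => ?_⟩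
  · have hd : orderOf (x : G ⧸ N) ∣ 3 := hx.ord ▸ orderOf_map_dvd (QuotientGroup.mk' N) x
    rcases (Nat.dvd_prime Nat.prime_three).1 hd with h | h
    · exact absurd ((QuotientGroup.eq_one_iff x).1 (orderOf_eq_one_iff.1 h)) (hx.not_mem h3)
    · exact h
  · induction g using QuotientGroup.induction_on with | _ g => ?_
    have hxg : x⁻¹ * (g * x * g⁻¹) ∈ N := by
      rw [← QuotientGroup.eq_one_iff, QuotientGroup.mk_mul, QuotientGroup.mk_mul,
        QuotientGroup.mk_mul, QuotientGroup.mk_inv, QuotientGroup.mk_inv, hg]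
      group
    obtain ⟨n, hn, he⟩ := hx.exists_conj_eq N h3 hxg
    obtain ⟨k, hk⟩ := hx.cent (n⁻¹ * g) (by
      calc n⁻¹ * g * x = n⁻¹ * (g * x * g⁻¹) * g := by group
        _ = n⁻¹ * (n * x * n⁻¹) * g := by rw [he]
        _ = _ := by group)
    refine ⟨k, ?_⟩
    have : ((n⁻¹ * g : G) : G ⧸ N) = (g : G ⧸ N) := by
      rw [QuotientGroup.mk_mul, (QuotientGroup.eq_one_iff _).2 (inv_mem hn), one_mul]
    rw [← this, ← hk]
    rfl

theorem exists_lift [Finite G] (N : Subgroup G) [N.Normal] (h3 : ¬ 3 ∣ Nat.card N)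
    {y : G ⧸ N} (hy : orderOf y = 3) : ∃ g : G, (g : G ⧸ N) = y ∧ orderOf g = 3 := by
  obtain ⟨q, hq⟩ := (hx.quotient N h3).exists_conj hy
  induction q using QuotientGroup.induction_on with | _ g => ?_
  rcases hq with h | h
  · exact ⟨g * x * g⁻¹, h, by rw [orderOf_cj]; exact hx.ord⟩
  · exact ⟨g * x⁻¹ * g⁻¹, h, by rw [orderOf_cj, orderOf_inv]; exact hx.ord⟩

/-- An element normalizing `⟨x⟩` lies in it or inverts `x`. -/
theorem mem_or_inverts {g : G} (h : g * x * g⁻¹ ∈ zpowers x) :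
    g ∈ zpowers x ∨ g * x * g⁻¹ = x⁻¹ := by
  rcases hx.mem_zpowers_cases.1 h with h1 | h1 | h1
  · refine absurd ?_ hx.ne_one
    calc x = g⁻¹ * (g * x * g⁻¹) * g := by group
      _ = 1 := by rw [h1]; group
  · exact Or.inl (hx.cent g (mul_inv_eq_iff_eq_mul.1 h1))
  · exact Or.inr h1

theorem inverter_mul_self {s : G} (hs : s * x * s⁻¹ = x⁻¹) : s * s = 1 := by
  have h2 : s * s * x * (s * s)⁻¹ = x := by
    calc s * s * x * (s * s)⁻¹ = s * (s * x * s⁻¹) * s⁻¹ := by group
      _ = (s * x * s⁻¹)⁻¹ := by rw [hs]; nth_rewrite 2 [← hs]; group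
      _ = _ := by rw [hs, inv_inv]
  rcases hx.mem_zpowers_cases.1 (hx.cent (s * s) (mul_inv_eq_iff_eq_mul.1 h2)) with h | h | h
  · exact h
  · exfalso
    have : s * x * s⁻¹ = x := by rw [← h]; group
    exact hx.inv_ne (hs.symm.trans this)
  · exfalso
    have : s * x⁻¹ * s⁻¹ = x⁻¹ := by rw [← h]; group
    rw [← conj_inv, hs, inv_inv] at this
    exact hx.inv_ne this.symm

theorem inverter_ne_one {s : G} (hs : s * x * s⁻¹ = x⁻¹) : s ≠ 1 := fun e => by
  rw [e] at hs; simp at hs; exact hx.inv_ne hs.symm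

theorem orderOf_inverter {s : G} (hs : s * x * s⁻¹ = x⁻¹) : orderOf s = 2 :=
  orderOf_eq_prime (by rw [sq]; exact hx.inverter_mul_self hs) (hx.inverter_ne_one hs)

theorem inverter_eq {s u : G} (hs : s * x * s⁻¹ = x⁻¹) (hu : u * x * u⁻¹ = x⁻¹) :
    ∃ k ∈ zpowers x, u = s * k := by
  refine ⟨s⁻¹ * u, hx.cent _ ?_, by group⟩
  calc s⁻¹ * u * x = s⁻¹ * (u * x * u⁻¹) * u := by group
    _ = s⁻¹ * (s * x * s⁻¹) * u := by rw [hu, hs]
    _ = _ := by group

omit hx in
theorem inverter_mul_mem {s k : G} (hs : s * x * s⁻¹ = x⁻¹) (hk : k ∈ zpowers x) :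
    (s * k) * x * (s * k)⁻¹ = x⁻¹ := by
  obtain ⟨j, rfl⟩ := hk
  calc s * x ^ j * x * (s * x ^ j)⁻¹ = s * (x ^ j * x * (x ^ j)⁻¹) * s⁻¹ := by group
    _ = s * x * s⁻¹ := by group
    _ = _ := hs

theorem inverter_not_mem {N : Subgroup G} (h3 : ¬ 3 ∣ Nat.card N)
    (hxN : x ∈ normalizer (N : Set G)) {s : G} (hs : s * x * s⁻¹ = x⁻¹) : s ∉ N := fun h => by
  have h1 : x * s⁻¹ * x⁻¹ ∈ N := (mem_normalizer_iff.1 hxN _).1 (inv_mem h)
  have h2 : s * (x * s⁻¹ * x⁻¹) ∈ N := mul_mem h h1
  have h3' : s * (x * s⁻¹ * x⁻¹) = x := by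
    calc s * (x * s⁻¹ * x⁻¹) = (s * x * s⁻¹) * x⁻¹ := by group
      _ = x⁻¹ * x⁻¹ := by rw [hs]
      _ = x := by rw [← mul_inv_rev, hx.mul_self, inv_inv]
  exact hx.not_mem h3 (h3' ▸ h2)

end SC3

/-- A normal subgroup of order prime to three which is maximal with that property. -/
theorem exists_core [Finite G] (x : G) : ∃ (N : Subgroup G) (_ : N.Normal),
    ¬ 3 ∣ Nat.card N ∧ ∀ M : Subgroup (G ⧸ N), M.Normal → ¬ 3 ∣ Nat.card M → M = ⊥ := by
  classical
  let P : Set (Subgroup G) := {N | N.Normal ∧ ¬ 3 ∣ Nat.card N}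
  have hne : P.Nonempty := ⟨⊥, inferInstance, by simp⟩
  obtain ⟨N, ⟨hNn, hN3⟩, hmax⟩ := P.toFinite.exists_maximal hne
  refine ⟨N, hNn, hN3, fun M hM hM3 => ?_⟩
  set L := M.comap (QuotientGroup.mk' N) with hL
  have hNL : N ≤ L := fun n hn => by
    show QuotientGroup.mk' N n ∈ M
    rw [QuotientGroup.mk'_apply, (QuotientGroup.eq_one_iff n).2 hn]
    exact one_mem M
  have hcard : Nat.card L = Nat.card M * Nat.card N := by
    rw [Subgroup.card_eq_card_quotient_mul_card_subgroup (N.subgroupOf L),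
      Nat.card_congr (Subgroup.subgroupOfEquivOfLe hNL).toEquiv]
    congr 1
    let f : L →* M :=
      { toFun := fun l => ⟨QuotientGroup.mk' N l, l.2⟩
        map_one' := Subtype.ext (map_one (QuotientGroup.mk' N))
        map_mul' := fun a b => Subtype.ext (map_mul (QuotientGroup.mk' N) (a : G) b) }
    have hf : Function.Surjective f := by
      rintro ⟨q, hq⟩
      induction q using QuotientGroup.induction_on with | _ g => ?_
      exact ⟨⟨g, hq⟩, rfl⟩
    have hker : f.ker = N.subgroupOf L := by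
      ext l
      simp [f, MonoidHom.mem_ker, Subtype.ext_iff, mem_subgroupOf, QuotientGroup.eq_one_iff]
    rw [← hker]
    exact Nat.card_congr (QuotientGroup.quotientKerEquivOfSurjective f hf).toEquiv
  have hL3 : ¬ 3 ∣ Nat.card L := by
    rw [hcard, Nat.prime_three.dvd_mul, not_or]; exact ⟨hM3, hN3⟩
  have hLn : L.Normal := hM.comap _
  have hLN : L ≤ N := hmax ⟨hLn, hL3⟩ hNL
  refine eq_bot_iff.2 fun q hq => ?_
  induction q using QuotientGroup.induction_on with | _ g => ?_
  exact mem_bot.2 ((QuotientGroup.eq_one_iff g).2 (hLN hq))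

/-- A group with a self-centralizing element of order three and no nontrivial normal
`3'`-subgroup. -/
theorem SC3.reduced_cases [Finite G] {x : G} (hx : SC3 x)
    (hred : ∀ M : Subgroup G, M.Normal → ¬ 3 ∣ Nat.card M → M = ⊥) :
    Nat.card G = 3 ∨ (Nat.card G = 6 ∧ ∃ s, s * x * s⁻¹ = x⁻¹) ∨
      (IsSimpleGroup G ∧ 6 < Nat.card G ∧ ∃ s, s * x * s⁻¹ = x⁻¹) := by
  classical
  have hall : ∀ M : Subgroup G, M.Normal → M ≠ ⊥ → x ∈ M := by
    intro M hM hne
    have h3 : 3 ∣ Nat.card M := by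
      by_contra h
      exact hne (hred M hM h)
    have : Fact (Nat.Prime 3) := ⟨Nat.prime_three⟩
    obtain ⟨⟨y, hyM⟩, hy⟩ := exists_prime_orderOf_dvd_card' 3 h3
    rw [orderOf_mk] at hy
    obtain ⟨g, h | h⟩ := hx.exists_conj hy
    · have := hM.conj_mem y hyM g⁻¹
      rw [← h] at this
      simpa [mul_assoc] using this
    · have := inv_mem (hM.conj_mem y hyM g⁻¹)
      rw [← h] at this
      simpa [mul_assoc] using this
  by_cases hnorm : ∀ g, g * x * g⁻¹ ∈ zpowers x
  · by_cases hinv : ∃ s, s * x * s⁻¹ = x⁻¹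
    · right; left
      refine ⟨?_, hinv⟩
      obtain ⟨s, hs⟩ := hinv
      have hnot : s ∉ zpowers x := fun h => by
        obtain ⟨j, rfl⟩ := h
        apply hx.inv_ne
        rw [← hs]
        group
      let e : Bool × zpowers x → G := fun p => cond p.1 (s * (p.2 : G)) (p.2 : G)
      have he : Function.Bijective e := by
        constructor
        · rintro ⟨b, k⟩ ⟨b', k'⟩ h
          cases b <;> cases b' <;> simp only [e, cond_true, cond_false] at h
          · rw [Subtype.ext h]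
          · exfalso; exact hnot ((eq_mul_inv_of_mul_eq h.symm) ▸ mul_mem k.2 (inv_mem k'.2))
          · exfalso; exact hnot ((eq_mul_inv_of_mul_eq h) ▸ mul_mem k'.2 (inv_mem k.2))
          · rw [Subtype.ext (mul_left_cancel h)]
        · intro g
          rcases hx.mem_or_inverts (hnorm g) with h | h
          · exact ⟨(false, ⟨g, h⟩), rfl⟩
          · obtain ⟨k, hk, rfl⟩ := hx.inverter_eq hs h
            exact ⟨(true, ⟨k, hk⟩), rfl⟩
      rw [← Nat.card_eq_of_bijective e he, Nat.card_prod, hx.card_zpowers]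
      simp
    · left
      have : zpowers x = ⊤ := eq_top_iff.2 fun g _ =>
        (hx.mem_or_inverts (hnorm g)).resolve_right fun h => hinv ⟨g, h⟩
      rw [← Subgroup.card_top, ← this, hx.card_zpowers]
  right; right
  push Not at hnorm
  obtain ⟨g₀, hg₀⟩ := hnorm
  set M := normalClosure ({x} : Set G) with hMdef
  have hxM : x ∈ M := subset_normalClosure rfl
  have hMn : M.Normal := normalClosure_normal
  have hconjM : ∀ g, g * x * g⁻¹ ∈ M := fun g => hMn.conj_mem x hxM g
  have hinvM : ∃ s ∈ M, s * x * s⁻¹ = x⁻¹ := by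
    by_contra hno
    push Not at hno
    have : Fact (Nat.Prime 3) := ⟨Nat.prime_three⟩
    set xm : M := ⟨x, hxM⟩
    have hxm : SC3 xm := hx.subgroup hxM
    have hP0 : IsPGroup 3 (zpowers xm) :=
      IsPGroup.of_card (n := 1) (by rw [hxm.card_zpowers]; norm_num)
    obtain ⟨P, hP⟩ := hP0.exists_le_sylow
    have hPz : (P : Subgroup M) = zpowers xm :=
      (Subgroup.eq_of_le_of_card_ge hP (le_of_eq (by
        rw [hxm.card_zpowers]; exact hxm.card_sylow P))).symm
    have hNC : normalizer ((P : Subgroup M) : Set M) ≤ centralizer ((P : Subgroup M) : Set M) := by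
      intro m hm
      rw [hPz] at hm ⊢
      have h1 : m * xm * m⁻¹ ∈ zpowers xm := (mem_normalizer_iff.1 hm xm).1 (mem_zpowers _)
      rcases hxm.mem_or_inverts h1 with h | h
      · intro y hy
        obtain ⟨i, rfl⟩ := hy
        obtain ⟨j, rfl⟩ := h
        exact (Commute.zpow_zpow (Commute.refl xm) i j).eq
      · exact absurd (congrArg Subtype.val h) (hno (m : G) m.2)
    set T := MonoidHom.transferSylow P hNC
    have hcompl := MonoidHom.ker_transferSylow_isComplement' P hNC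
    have hK3 : ¬ 3 ∣ Nat.card T.ker := by
      intro hd
      have h9 : 9 ∣ Nat.card M := by
        rw [← hcompl.card_mul, hxm.card_sylow P]
        exact Nat.mul_dvd_mul_right hd 3
      exact hx.not_nine_dvd (h9.trans (card_subgroup_dvd_card M))
    have hmem : ∀ m : M, ¬ 3 ∣ orderOf m → m ∈ T.ker := by
      intro m hm
      rw [MonoidHom.mem_ker, ← orderOf_eq_one_iff]
      refine Nat.eq_one_of_dvd_coprimes ?_ (orderOf_map_dvd T m) (orderOf_dvd_natCard (T m))
      rw [hxm.card_sylow P]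
      exact ((Nat.prime_three.coprime_iff_not_dvd).2 hm).symm
    set K := T.ker.map M.subtype
    have hKn : K.Normal := by
      refine ⟨fun k hk g => ?_⟩
      obtain ⟨m, hm, rfl⟩ := hk
      refine ⟨⟨g * (m : G) * g⁻¹, hMn.conj_mem _ m.2 g⟩, hmem _ ?_, rfl⟩
      rw [orderOf_mk, orderOf_cj, orderOf_coe]
      exact fun h => hK3 (h.trans (orderOf_mk m hm ▸ orderOf_dvd_natCard (⟨m, hm⟩ : T.ker)))
    have hKb : K = ⊥ := hred K hKn (by
      rwa [card_map_of_injective M.subtype_injective])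
    have hT : T.ker = ⊥ := (map_eq_bot_iff_of_injective _ M.subtype_injective).1 hKb
    have hcardM : Nat.card M = 3 := by
      rw [← hcompl.card_mul, hT, card_bot, one_mul, hxm.card_sylow P]
    have hMz : zpowers x = M :=
      Subgroup.eq_of_le_of_card_ge (zpowers_le.2 hxM) (by rw [hcardM, hx.card_zpowers])
    exact hg₀ (hMz ▸ hconjM g₀)
  obtain ⟨s, hsM, hs⟩ := hinvM
  have hM : M = ⊤ := by
    refine eq_top_iff.2 fun g _ => ?_
    have hy : orderOf (⟨g * x * g⁻¹, hconjM g⟩ : M) = 3 := by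
      rw [orderOf_mk, orderOf_cj]; exact hx.ord
    obtain ⟨⟨m, hm⟩, h⟩ := (hx.subgroup hxM).exists_conj hy
    have h' : (m⁻¹ * g) * x * (m⁻¹ * g)⁻¹ ∈ zpowers x := by
      rcases h with h | h
      · have := congrArg Subtype.val h
        simp only [coe_mul, InvMemClass.coe_inv] at this
        rw [show m⁻¹ * g * x * (m⁻¹ * g)⁻¹ = m⁻¹ * (g * x * g⁻¹) * m by group, ← this,
          show m⁻¹ * (m * x * m⁻¹) * m = x by group]
        exact mem_zpowers x
      · have := congrArg Subtype.val h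
        simp only [coe_mul, InvMemClass.coe_inv] at this
        rw [show m⁻¹ * g * x * (m⁻¹ * g)⁻¹ = m⁻¹ * (g * x * g⁻¹) * m by group, ← this,
          show m⁻¹ * (m * x⁻¹ * m⁻¹) * m = x⁻¹ by group]
        exact inv_mem (mem_zpowers x)
    have hmg : m⁻¹ * g ∈ M := by
      rcases hx.mem_or_inverts h' with h1 | h1
      · exact (zpowers_le.2 hxM) h1
      · obtain ⟨k, hk, he⟩ := hx.inverter_eq hs h1
        rw [he]
        exact mul_mem hsM (zpowers_le.2 hxM hk)
    simpa using mul_mem hm hmg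
  have hnt : Nontrivial G := ⟨⟨x, 1, hx.ne_one⟩⟩
  refine ⟨⟨fun N hN => ?_⟩, ?_, s, hs⟩
  · by_cases hb : N = ⊥
    · exact Or.inl hb
    · refine Or.inr (top_le_iff.1 ?_)
      rw [← hM]
      exact normalClosure_le_normal (Set.singleton_subset_iff.2 (hall N hN hb))
  · by_contra hle
    push Not at hle
    apply hg₀
    have hn : (zpowers x).Normal := by
      have h3 : 3 ∣ Nat.card G := hx.ord ▸ orderOf_dvd_natCard x
      have h2 : 2 ∣ Nat.card G := hx.orderOf_inverter hs ▸ orderOf_dvd_natCard s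
      have h6 : Nat.card G = 6 := by
        have h6 : 6 ∣ Nat.card G := Nat.Coprime.mul_dvd_of_dvd_of_dvd (by norm_num) h2 h3
        have := Nat.le_of_dvd Nat.card_pos h6
        omega
      have hi : (zpowers x).index = 2 := by
        have := card_mul_index (zpowers x)
        rw [hx.card_zpowers, h6] at this
        omega
      exact normal_of_index_eq_two hi
    exact hn.conj_mem x (mem_zpowers x) g₀

end CfsgLib.SelfThree29
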