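import Cfsg.Agent.Lib.SelfThree29.Basic
import Cfsg.Agent.Lib.Recognition.ThreeSelfChar
import Cfsg.Agent.Lib.Blocks.ClassCount
import Cfsg.Agent.Lib.Small.Order4320

/-!
# The three exceptional columns

In a simple group with a self-centralizing element `x` of order three exactly three irreducible
characters are non-zero at `x`.  Burnside's count then gives the order of the group in terms of the
degree `d`, the value `a` at an involution and the order `c` of its centralizer, and shows that all
involutions are conjugate.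
-/

set_option autoImplicit false

namespace CfsgLib.SelfThree29

open Subgroup Cfsg CfsgLib.Characters
open scoped ComplexConjugate

/-- The numerical consequences of the character table. -/
structure Arith (G : Type*) [Group G] (x s : G) (d a : ℤ) : Prop where
  d_mod : d % 3 = 1
  d_ge : 4 ≤ d
  a_lt : a < d
  sq_le : 2 * a * a + 2 * a + 2 ≤ (Nat.card (centralizer ({s} : Set G)) : ℤ)
  order : (Nat.card G : ℤ) * (d - a) ^ 2 =
    3 * (Nat.card (centralizer ({s} : Set G)) : ℤ) ^ 2 * (d * (d + 1))
  pairs : 9 * (Nat.card {u : G // orderOf u = 3 ∧ orderOf (u⁻¹ * x) = 3} : ℤ) * (d * (d + 1)) =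
    (Nat.card G : ℤ) * (d * d + d + 1)
  klein : ∀ u v : G, orderOf u = 2 → orderOf v = 2 → u ≠ v → u * v = v * u → 0 ≤ d + 3 * a
  alt : 0 ≤ d + 3 * a → ∃ u v : G, orderOf u = 3 ∧ orderOf v = 3 ∧ orderOf (u * v) = 2
  isConj : ∀ t : G, orderOf t = 2 → IsConj s t

theorem card_klein_sum {G : Type*} [Group G] [Fintype G] {u v : G} (hu : orderOf u = 2)
    (hv : orderOf v = 2) (hne : u ≠ v) (hc : u * v = v * u) (χ : IrrCharacter G) :
    ∃ m : ℕ, (χ : G → ℂ) 1 + (χ : G → ℂ) u + (χ : G → ℂ) v + (χ : G → ℂ) (u * v) = 4 * m := by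
  classical
  have huu : u * u = 1 := by rw [← sq, ← hu, pow_orderOf_eq_one]
  have hvv : v * v = 1 := by rw [← sq, ← hv, pow_orderOf_eq_one]
  have hu1 : u ≠ 1 := fun e => by rw [e, orderOf_one] at hu; omega
  have hv1 : v ≠ 1 := fun e => by rw [e, orderOf_one] at hv; omega
  have huv1 : u * v ≠ 1 := fun e => hne (by
    calc u = u * v * v := by rw [mul_assoc, hvv, mul_one]
      _ = v := by rw [e, one_mul])
  have hinv : ∀ w ∈ ({1, u, v, u * v} : Finset G), w⁻¹ = w := by
    intro w hw
    simp only [Finset.mem_insert, Finset.mem_singleton] at hw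
    rcases hw with rfl | rfl | rfl | rfl
    · exact inv_one
    · exact inv_eq_of_mul_eq_one_right huu
    · exact inv_eq_of_mul_eq_one_right hvv
    · refine inv_eq_of_mul_eq_one_right ?_
      calc u * v * (u * v) = v * (u * u) * v := by nth_rewrite 1 [hc]; simp only [mul_assoc]
        _ = 1 := by rw [huu, mul_one, hvv]
  let H : Subgroup G :=
    { carrier := ↑({1, u, v, u * v} : Finset G)
      one_mem' := by simp
      mul_mem' := by
        intro w w' hw hw'
        simp only [Finset.coe_insert, Finset.coe_singleton, Set.mem_insert_iff,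
          Set.mem_singleton_iff] at hw hw' ⊢
        have h1 : v * (u * v) = u := by rw [← mul_assoc, ← hc, mul_assoc, hvv, mul_one]
        have h2 : u * (u * v) = v := by rw [← mul_assoc, huu, one_mul]
        have h3 : u * v * u = v := by rw [hc, mul_assoc, huu, mul_one]
        have h4 : u * v * v = u := by rw [mul_assoc, hvv, mul_one]
        have h5 : u * v * (u * v) = 1 := by rw [← mul_assoc, h3, hvv]
        rcases hw with rfl | rfl | rfl | rfl <;> rcases hw' with rfl | rfl | rfl | rfl <;>
          simp_all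
      inv_mem' := by
        intro w hw
        simp only [Finset.mem_coe] at hw ⊢
        rwa [hinv w hw] }
  obtain ⟨m, hm⟩ := CfsgLib.ClassCount.exists_mult χ H
  refine ⟨m, ?_⟩
  have hH : ∀ w : G, w ∈ H ↔ w ∈ ({1, u, v, u * v} : Finset G) := fun w => Iff.rfl
  rw [← Finset.sum_subtype (p := fun w => w ∈ H) ({1, u, v, u * v} : Finset G)
    (fun w => (hH w).symm) (fun w => (χ : G → ℂ) w⁻¹)] at hm
  have hcard : Nat.card H = 4 := by
    rw [Nat.card_eq_fintype_card, Fintype.card_of_subtype ({1, u, v, u * v} : Finset G)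
      (fun w => (hH w).symm)]
    rw [Finset.card_insert_of_notMem (by simp [hu1.symm, hv1.symm, huv1.symm]),
      Finset.card_insert_of_notMem (by simp [hne, hv1]),
      Finset.card_insert_of_notMem (by simp [hu1]), Finset.card_singleton]
  rw [hcard, Finset.sum_congr rfl fun w hw => by rw [hinv w hw],
    Finset.sum_insert (by simp [hu1.symm, hv1.symm, huv1.symm]),
    Finset.sum_insert (by simp [hne, hv1]), Finset.sum_insert (by simp [hu1]),
    Finset.sum_singleton] at hm
  rw [← add_assoc, ← add_assoc] at hm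
  exact hm

theorem SC3.isConj_inverter {G : Type*} [Group G] {x : G} (hx : SC3 x) {s u : G}
    (hs : s * x * s⁻¹ = x⁻¹) (hu : u * x * u⁻¹ = x⁻¹) : IsConj s u := by
  obtain ⟨k, hk, rfl⟩ := hx.inverter_eq hs hu
  refine isConj_iff.2 ⟨k, ?_⟩
  have hsk : s * k * s⁻¹ = k⁻¹ := by
    obtain ⟨j, rfl⟩ := hk
    show s * x ^ j * s⁻¹ = (x ^ j)⁻¹
    rw [← conj_zpow, hs, inv_zpow]
  have hk3 : k * (k * k) = 1 := by
    obtain ⟨j, rfl⟩ := hk
    show x ^ j * (x ^ j * x ^ j) = 1
    rw [← zpow_add, ← zpow_add, show j + (j + j) = ((3 : ℕ) : ℤ) * j by push_cast; ring,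
      zpow_mul, zpow_natCast, hx.cube, one_zpow]
  have hss : s⁻¹ = s := inv_eq_of_mul_eq_one_right (hx.inverter_mul_self hs)
  calc k * s * k⁻¹ = s * (s⁻¹ * k * s) * k⁻¹ := by group
    _ = s * (k⁻¹ * k⁻¹) := by
        have : s⁻¹ * k * s = k⁻¹ := by rw [hss]; nth_rewrite 2 [← hss]; exact hsk
        rw [this, mul_assoc]
    _ = s * k := by rw [← mul_inv_rev, inv_eq_of_mul_eq_one_left hk3]

theorem SC3.exists_arith {G : Type*} [Group G] [Finite G] [IsSimpleGroup G] {x : G} (hx : SC3 x)
    {s : G} (hs : s * x * s⁻¹ = x⁻¹) (hbig : 6 < Nat.card G) :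
    ∃ d a : ℤ, Arith G x s d a := by
  classical
  have : Fintype G := Fintype.ofFinite G
  have hnc : ¬ IsMulCommutative G := by
    intro hc
    exact hx.inv_ne (hs.symm.trans (by rw [hc.is_comm.comm s x]; group))
  have hs2 : orderOf s = 2 := hx.orderOf_inverter hs
  have hxinv : IsConj x x⁻¹ := isConj_iff.2 ⟨s, hs⟩
  have hcx : Nat.card (centralizer ({x} : Set G)) = 3 := by
    have : centralizer ({x} : Set G) = zpowers x := by
      refine le_antisymm (fun g hg => hx.cent g (mem_centralizer_singleton_iff.1 hg)) ?_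
      rw [zpowers_le, mem_centralizer_singleton_iff]
    rw [this, hx.card_zpowers]
  have hdeg : ∀ χ : IrrCharacter G, ∃ n : ℕ, (χ : G → ℂ) 1 = n ∧ 0 < n := fun χ => by
    obtain ⟨n, hn, h⟩ := irr_exists_degree χ.2
    exact ⟨n, by simpa using h, hn⟩
  choose D hD hDpos using hdeg
  have hval : ∀ χ : IrrCharacter G, ∃ z : ℤ, (χ : G → ℂ) x = z ∧ (3 : ℤ) ∣ D χ - z := fun χ =>
    CfsgLib.ThreeSelfCentral.exists_int_value hx.cube hxinv χ (by rw [hD χ]; simp)
  choose X hX hX3 using hval
  have hXinv : ∀ χ : IrrCharacter G, (χ : G → ℂ) x⁻¹ = X χ := fun χ => by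
    rw [← classFunction_eq_of_isConj (irr_isClassFunction χ) hxinv, hX]
  have hprin : ∀ g, (principalIrr G : G → ℂ) g = 1 := fun g => principalIrr_apply g
  have hX1 : X (principalIrr G) = 1 := by
    have := hX (principalIrr G); rw [hprin] at this; exact_mod_cast this.symm
  have hD1 : D (principalIrr G) = 1 := by
    have := hD (principalIrr G); rw [hprin] at this; exact_mod_cast this.symm
  have hsum2 : ∑ χ, X χ * X χ = 3 := by
    have := column_orth x x
    simp only [hX, map_intCast, if_pos (IsConj.refl x), hcx] at this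
    exact_mod_cast this
  have habs : ∀ χ, X χ = 0 ∨ X χ * X χ = 1 := fun χ => by
    have h : X χ * X χ ≤ 3 := hsum2 ▸
      Finset.single_le_sum (fun ψ _ => mul_self_nonneg (X ψ)) (Finset.mem_univ χ)
    have : -1 ≤ X χ ∧ X χ ≤ 1 := by constructor <;> nlinarith
    rcases (show X χ = -1 ∨ X χ = 0 ∨ X χ = 1 by omega) with e | e | e <;> simp [e]
  set T := Finset.univ.filter fun χ : IrrCharacter G => X χ ≠ 0 with hT
  have hTcard : T.card = 3 := by
    have h : ∑ χ ∈ T, X χ * X χ = 3 := by
      rw [← hsum2, hT, Finset.sum_filter]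
      exact Finset.sum_congr rfl fun χ _ => by split_ifs with h <;> simp_all
    rw [Finset.sum_congr rfl fun χ hχ => (habs χ).resolve_left (Finset.mem_filter.1 hχ).2,
      Finset.sum_const, nsmul_eq_mul, mul_one] at h
    exact_mod_cast h
  have hT1 : principalIrr G ∈ T := by simp [hT, hX1]
  obtain ⟨p₀, q₀, hpq₀, hTe⟩ := Finset.card_eq_two.1
    (show (T.erase (principalIrr G)).card = 2 by rw [Finset.card_erase_of_mem hT1, hTcard])
  have hsumX : ∀ f : IrrCharacter G → ℂ, (∀ χ, X χ = 0 → f χ = 0) →
      ∑ χ, f χ = f (principalIrr G) + f p₀ + f q₀ := by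
    intro f hf
    rw [← Finset.sum_subset (Finset.subset_univ T) fun χ _ hχ => hf χ (by simpa [hT] using hχ),
      ← Finset.add_sum_erase T f hT1, hTe, Finset.sum_pair hpq₀, add_assoc]
  have hdeg0 : 1 + (D p₀ : ℤ) * X p₀ + (D q₀ : ℤ) * X q₀ = 0 := by
    have h := sum_degree_mul_irr x
    rw [if_neg hx.ne_one, hsumX _ fun χ h => by rw [hX, h]; simp] at h
    simp only [hD, hX, hX1, hD1, Nat.cast_one, Int.cast_one, one_mul] at h
    exact_mod_cast h
  obtain ⟨hp0m, hp01⟩ : X p₀ ≠ 0 ∧ p₀ ≠ principalIrr G := by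
    have : p₀ ∈ T.erase (principalIrr G) := by rw [hTe]; simp
    rw [Finset.mem_erase, hT, Finset.mem_filter] at this
    exact ⟨this.2.2, this.1⟩
  obtain ⟨hq0m, hq01⟩ : X q₀ ≠ 0 ∧ q₀ ≠ principalIrr G := by
    have : q₀ ∈ T.erase (principalIrr G) := by rw [hTe]; simp
    rw [Finset.mem_erase, hT, Finset.mem_filter] at this
    exact ⟨this.2.2, this.1⟩
  obtain ⟨p, q, hp1, hq1, hXp, hXq, hsum, hdq⟩ : ∃ p q : IrrCharacter G,
      p ≠ principalIrr G ∧ q ≠ principalIrr G ∧ X p = 1 ∧ X q = -1 ∧
      (∀ f : IrrCharacter G → ℂ, (∀ χ, X χ = 0 → f χ = 0) →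
        ∑ χ, f χ = f (principalIrr G) + f p + f q) ∧ D q = D p + 1 := by
    have := hDpos p₀
    have := hDpos q₀
    have hp' : X p₀ = 1 ∨ X p₀ = -1 :=
      mul_self_eq_one_iff.1 ((habs p₀).resolve_left hp0m)
    have hq' : X q₀ = 1 ∨ X q₀ = -1 :=
      mul_self_eq_one_iff.1 ((habs q₀).resolve_left hq0m)
    rcases hp' with hp | hp <;> rcases hq' with hq | hq <;> rw [hp, hq] at hdeg0
    · omega
    · exact ⟨p₀, q₀, hp01, hq01, hp, hq, hsumX, by omega⟩
    · exact ⟨q₀, p₀, hq01, hp01, hq, hp, fun f hf => by rw [hsumX f hf, add_right_comm],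
        by omega⟩
    · -- both negative
      have hpd : (D p₀ : ℤ) + D q₀ = 1 := by omega
      omega
  have hd3 : (D p : ℤ) % 3 = 1 := by have := hX3 p; rw [hXp] at this; omega
  have hd1 : D p ≠ 1 := fun e => hp1 (by
    obtain ⟨f, rfl⟩ := exists_linearIrr_eq p (by rw [hD, e]; simp)
    refine Subtype.ext (funext fun g => ?_)
    simp [linearIrr, CfsgLib.Small.hom_comm_eq_one hnc f g])
  have hd4 : 4 ≤ (D p : ℤ) := by have := hDpos p; omega
  -- values at involutions
  have hb : ∀ t, orderOf t = 2 → ∃ b : ℤ, (p : G → ℂ) t = b ∧ (q : G → ℂ) t = b + 1 ∧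
      b < D p ∧ 2 * b * b + 2 * b + 2 ≤ (Nat.card (centralizer ({t} : Set G)) : ℤ) := by
    intro t ht
    obtain ⟨b, hb, -, hlt⟩ := CfsgLib.Small.Order4320.value_involution hnc hp1 ht (hD p)
    have hnc' : ¬ IsConj t x := fun h => by
      obtain ⟨g, hg⟩ := isConj_iff.1 h
      have := hx.ord
      rw [← hg, orderOf_cj, ht] at this
      omega
    have h1 := column_orth t x
    rw [if_neg hnc', hsum _ fun χ h => by rw [hX, h]; simp] at h1
    simp only [hprin, hX, hX1, hXp, hXq, hb, map_one, Int.cast_one, Int.cast_neg, map_neg, mul_one,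
      mul_neg] at h1
    have hq' : (q : G → ℂ) t = b + 1 := by linear_combination -h1
    refine ⟨b, hb, hq', ?_, ?_⟩
    · exact (abs_lt_of_sq_lt_sq' hlt (Int.natCast_nonneg _)).2
    · have h2 := congrArg Complex.re (column_orth t t)
      rw [if_pos (IsConj.refl t), Complex.natCast_re, Complex.re_sum] at h2
      have h3 : ∑ χ ∈ ({principalIrr G, p, q} : Finset (IrrCharacter G)),
          ((χ : G → ℂ) t * conj ((χ : G → ℂ) t)).re ≤
          (Nat.card (centralizer ({t} : Set G)) : ℝ) := by
        rw [← h2]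
        refine Finset.sum_le_sum_of_subset_of_nonneg (Finset.subset_univ _) fun χ _ _ => ?_
        rw [Complex.mul_conj]
        exact Complex.normSq_nonneg _
      have hpq : p ≠ q := fun e => by have h := hXp; rw [e, hXq] at h; omega
      rw [Finset.sum_insert (by simp [hp1.symm, hq1.symm]), Finset.sum_pair hpq, hprin, hb,
        hq'] at h3
      simp only [map_one, mul_one, Complex.one_re, map_add, map_intCast, Complex.mul_re,
        Complex.intCast_re, Complex.intCast_im, mul_zero, sub_zero, Complex.add_re, Complex.add_im,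
        Complex.one_im, add_zero] at h3
      have h4 : ((2 * b * b + 2 * b + 2 : ℤ) : ℝ) ≤
          ((Nat.card (centralizer ({t} : Set G)) : ℤ) : ℝ) := by push_cast; linarith
      exact_mod_cast h4
  -- the count
  have hcof : ∀ χ : IrrCharacter G, (CfsgLib.ClassCount.cofDegree χ : ℤ) * D χ = Nat.card G := by
    intro χ
    have h := CfsgLib.ClassCount.card_div_degree χ
    rw [hD, div_eq_iff (Nat.cast_ne_zero.2 (hDpos χ).ne')] at h
    exact_mod_cast h.symm
  have hcof1 : (CfsgLib.ClassCount.cofDegree (principalIrr G) : ℤ) = Nat.card G := by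
    have := hcof (principalIrr G); rw [hD1] at this; simpa using this
  have hinv2 : ∀ t : G, orderOf t = 2 → t⁻¹ = t := fun t ht =>
    inv_eq_of_mul_eq_one_right (by rw [← sq, ← ht, pow_orderOf_eq_one])
  have hK : ∀ t b : _, orderOf t = 2 → (p : G → ℂ) t = (b : ℤ) → (q : G → ℂ) t = b + 1 →
      ((CfsgLib.ClassCount.pairs t t {x}).card : ℤ) *
        (Nat.card (centralizer ({t} : Set G)) : ℤ) ^ 2 * ((D p : ℤ) * (D p + 1)) =
        (Nat.card G : ℤ) * ((D p : ℤ) - b) ^ 2 := by
    intro t b ht hbp hbq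
    have h := CfsgLib.ClassCount.card_pairs_mul_centralizers t t {x}
    rw [hsum _ fun χ h => by simp [hXinv, h]] at h
    simp only [Finset.sum_singleton, hXinv, hprin, hXp, hXq, hbp, hbq, hX1] at h
    have h' : ((CfsgLib.ClassCount.pairs t t {x}).card : ℤ) *
        (Nat.card (centralizer ({t} : Set G)) : ℤ) * (Nat.card (centralizer ({t} : Set G)) : ℤ) =
        (CfsgLib.ClassCount.cofDegree (principalIrr G) : ℤ) +
          (CfsgLib.ClassCount.cofDegree p : ℤ) * (b * b) -
          (CfsgLib.ClassCount.cofDegree q : ℤ) * ((b + 1) * (b + 1)) := by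
      apply Int.cast_injective (α := ℂ)
      push_cast at h ⊢
      linear_combination h
    have h1 := hcof p
    have h2 := hcof q
    rw [hdq] at h2
    push_cast at h2
    rw [hcof1] at h'
    linear_combination ((D p : ℤ) * (D p + 1)) * h' + (((D p : ℤ) + 1) * (b * b)) * h1 -
      ((D p : ℤ) * ((b + 1) * (b + 1))) * h2
  obtain ⟨a, hap, haq, halt, hale⟩ := hb s hs2
  have hpairs3 : (CfsgLib.ClassCount.pairs s s {x}).card = 3 := by
    have hconj : ∀ k ∈ zpowers x, IsConj s (s * k) := fun k hk =>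
      hx.isConj_inverter hs (SC3.inverter_mul_mem hs hk)
    have hfin : Fintype (zpowers x) := Fintype.ofFinite _
    have himg : CfsgLib.ClassCount.pairs s s {x} =
        (Finset.univ : Finset (zpowers x)).image fun k : zpowers x => (s * (k : G), s * (k : G) * x) := by
      ext ⟨u, v⟩
      simp only [CfsgLib.ClassCount.pairs, Finset.mem_filter, Finset.mem_product,
        CfsgLib.ClassCount.mem_cls, Finset.mem_singleton, Finset.mem_image, Finset.mem_univ,
        true_and, Prod.mk.injEq]
      constructor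
      · rintro ⟨⟨hu, hv⟩, huv⟩
        have hu2 : orderOf u = 2 := by
          obtain ⟨g, hg⟩ := isConj_iff.1 hu; rw [← hg, orderOf_cj]; exact hs2
        have hv2 : orderOf v = 2 := by
          obtain ⟨g, hg⟩ := isConj_iff.1 hv; rw [← hg, orderOf_cj]; exact hs2
        have hui : u * x * u⁻¹ = x⁻¹ := by
          rw [← huv, mul_inv_rev, hinv2 v hv2, hinv2 u hu2, ← mul_assoc,
            show u * u = 1 by rw [← sq, ← hu2, pow_orderOf_eq_one], one_mul]
        obtain ⟨k, hk, rfl⟩ := hx.inverter_eq hs hui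
        refine ⟨⟨k, hk⟩, rfl, ?_⟩
        have hmm := hx.inverter_mul_self hui
        calc s * k * x = s * k * (s * k * v) := by rw [huv]
          _ = v := by rw [← mul_assoc, hmm, one_mul]
      · rintro ⟨⟨k, hk⟩, rfl, rfl⟩
        refine ⟨⟨hconj k hk, ?_⟩, ?_⟩
        · rw [mul_assoc]; exact hconj _ (mul_mem hk (mem_zpowers x))
        · have hmm := hx.inverter_mul_self (SC3.inverter_mul_mem hs hk)
          calc s * k * (s * k * x) = s * k * (s * k) * x := by simp only [mul_assoc]
            _ = x := by rw [hmm, one_mul]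
    rw [himg, Finset.card_image_of_injective _ fun k k' e => Subtype.ext
      (mul_left_cancel (congrArg Prod.fst e)), Finset.card_univ, ← Nat.card_eq_fintype_card,
      hx.card_zpowers]
  have hiso : ∀ t : G, orderOf t = 2 → IsConj s t := by
    intro t ht
    obtain ⟨b, hbp, hbq, hblt, -⟩ := hb t ht
    by_contra hts
    have h0 : (CfsgLib.ClassCount.pairs t t {x}).card = 0 := by
      rw [Finset.card_eq_zero, Finset.eq_empty_iff_forall_notMem]
      rintro ⟨u', v'⟩ h
      simp only [CfsgLib.ClassCount.pairs, Finset.mem_filter, Finset.mem_product,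
        CfsgLib.ClassCount.mem_cls, Finset.mem_singleton] at h
      obtain ⟨⟨hu', hv'⟩, huv⟩ := h
      have hu2 : orderOf u' = 2 := by
        obtain ⟨g, hg⟩ := isConj_iff.1 hu'; rw [← hg, orderOf_cj]; exact ht
      have hv2 : orderOf v' = 2 := by
        obtain ⟨g, hg⟩ := isConj_iff.1 hv'; rw [← hg, orderOf_cj]; exact ht
      have hui : u' * x * u'⁻¹ = x⁻¹ := by
        rw [← huv, mul_inv_rev, hinv2 v' hv2, hinv2 u' hu2, ← mul_assoc,
          show u' * u' = 1 by rw [← sq, ← hu2, pow_orderOf_eq_one], one_mul]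
      exact hts ((hx.isConj_inverter hs hui).trans hu'.symm)
    have := hK t b ht hbp hbq
    rw [h0] at this
    simp only [Nat.cast_zero, zero_mul] at this
    rcases mul_eq_zero.1 this.symm with h | h
    · exact absurd h (by exact_mod_cast Nat.card_pos.ne')
    · have := sq_eq_zero_iff.1 h
      omega
  refine ⟨D p, a, hd3, hd4, halt, hale, ?_, ?_, ?_, ?_, ?_⟩
  · have := hK s a hs2 hap haq
    rw [hpairs3] at this
    push_cast at this
    linear_combination -this
  · -- pairs of elements of order three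
    have hXu : ∀ u : G, IsConj x u ↔ orderOf u = 3 := fun u => by
      constructor
      · intro h; obtain ⟨g, hg⟩ := isConj_iff.1 h; rw [← hg, orderOf_cj]; exact hx.ord
      · intro h
        obtain ⟨g, hg | hg⟩ := hx.exists_conj h
        · exact isConj_iff.2 ⟨g, hg⟩
        · exact hxinv.trans (isConj_iff.2 ⟨g, hg⟩)
    have hbij : (CfsgLib.ClassCount.pairs x x {x}).card =
        Nat.card {u : G // orderOf u = 3 ∧ orderOf (u⁻¹ * x) = 3} := by
      rw [Nat.card_eq_fintype_card, ← Finset.card_univ]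
      refine Finset.card_bij' (fun z hz => ⟨z.1, ?_⟩) (fun u _ => ((u : G), (u : G)⁻¹ * x))
        (fun _ _ => Finset.mem_univ _) (fun u _ => ?_) (fun z hz => ?_) (fun u _ => rfl)
      · simp only [CfsgLib.ClassCount.pairs, Finset.mem_filter, Finset.mem_product,
          CfsgLib.ClassCount.mem_cls, Finset.mem_singleton] at hz
        refine ⟨(hXu _).1 hz.1.1, ?_⟩
        rw [show z.1⁻¹ * x = z.2 by rw [← hz.2]; group]
        exact (hXu _).1 hz.1.2
      · simp only [CfsgLib.ClassCount.pairs, Finset.mem_filter, Finset.mem_product,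
          CfsgLib.ClassCount.mem_cls, Finset.mem_singleton]
        exact ⟨⟨(hXu _).2 u.2.1, (hXu _).2 u.2.2⟩, mul_inv_cancel_left _ _⟩
      · simp only [CfsgLib.ClassCount.pairs, Finset.mem_filter, Finset.mem_product,
          CfsgLib.ClassCount.mem_cls, Finset.mem_singleton] at hz
        exact Prod.ext rfl (by simp [← hz.2])
    have h := CfsgLib.ClassCount.card_pairs_mul_centralizers x x {x}
    rw [hsum _ fun χ h => by simp [hXinv, h]] at h
    simp only [Finset.sum_singleton, hXinv, hX, hXp, hXq, hX1, hcx] at h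
    have h' : ((CfsgLib.ClassCount.pairs x x {x}).card : ℤ) * 9 =
        (CfsgLib.ClassCount.cofDegree (principalIrr G) : ℤ) +
          (CfsgLib.ClassCount.cofDegree p : ℤ) - (CfsgLib.ClassCount.cofDegree q : ℤ) := by
      apply Int.cast_injective (α := ℂ)
      push_cast at h ⊢
      linear_combination h
    have h1 := hcof p
    have h2 := hcof q
    rw [hdq] at h2
    push_cast at h2
    rw [hcof1, hbij] at h'
    linear_combination ((D p : ℤ) * (D p + 1)) * h' + ((D p : ℤ) + 1) * h1 - (D p : ℤ) * h2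
  · -- four-groups
    intro u v hu hv hne hc
    have hall : ∀ t, orderOf t = 2 → (p : G → ℂ) t = a := fun t ht => by
      rw [← classFunction_eq_of_isConj (irr_isClassFunction p) (hiso t ht), hap]
    obtain ⟨m, hm⟩ := card_klein_sum hu hv hne hc p
    have huv2 : orderOf (u * v) = 2 := by
      refine orderOf_eq_prime ?_ ?_
      · rw [(show Commute u v from hc).mul_pow, ← hu, pow_orderOf_eq_one, hu, ← hv,
          pow_orderOf_eq_one, one_mul]
      · intro e
        exact hne ((eq_inv_of_mul_eq_one_left e).trans (hinv2 v hv))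
    rw [hD, hall u hu, hall v hv, hall _ huv2] at hm
    have : (D p : ℤ) + a + a + a = 4 * m := by exact_mod_cast hm
    omega
  · -- elements of order three with product an involution
    intro hpos
    have h := CfsgLib.ClassCount.card_pairs_mul_centralizers x x {s}
    rw [hsum _ fun χ h => by simp [hX, h]] at h
    simp only [Finset.sum_singleton, hinv2 s hs2, hprin, hX, hXp, hXq, hX1, hcx, hap, haq] at h
    have h' : ((CfsgLib.ClassCount.pairs x x {s}).card : ℤ) * 9 =
        (CfsgLib.ClassCount.cofDegree (principalIrr G) : ℤ) +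
          (CfsgLib.ClassCount.cofDegree p : ℤ) * a +
          (CfsgLib.ClassCount.cofDegree q : ℤ) * (a + 1) := by
      apply Int.cast_injective (α := ℂ)
      push_cast at h ⊢
      linear_combination h
    have h1 := hcof p
    have h2 := hcof q
    rw [hdq] at h2
    push_cast at h2
    rw [hcof1] at h'
    have hne : (CfsgLib.ClassCount.pairs x x {s}).card ≠ 0 := by
      intro h0
      rw [h0] at h'
      have h3 : (Nat.card G : ℤ) * ((D p : ℤ) * (D p + 1) + (D p + 1) * a + D p * (a + 1)) = 0 := by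
        linear_combination -((D p : ℤ) * (D p + 1)) * h' - (((D p : ℤ) + 1) * a) * h1 -
          ((D p : ℤ) * (a + 1)) * h2
      rcases mul_eq_zero.1 h3 with h4 | h4
      · exact absurd h4 (by exact_mod_cast Nat.card_pos.ne')
      · nlinarith
    obtain ⟨⟨u, v⟩, huv⟩ := Finset.card_ne_zero.1 hne
    simp only [CfsgLib.ClassCount.pairs, Finset.mem_filter, Finset.mem_product,
      CfsgLib.ClassCount.mem_cls, Finset.mem_singleton] at huv
    obtain ⟨g, hg⟩ := isConj_iff.1 huv.1.1
    obtain ⟨g', hg'⟩ := isConj_iff.1 huv.1.2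
    exact ⟨u, v, by rw [← hg, orderOf_cj]; exact hx.ord, by rw [← hg', orderOf_cj]; exact hx.ord,
      by rw [huv.2]; exact hs2⟩
  · exact hiso

end CfsgLib.SelfThree29
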