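import Cfsg.Agent.Lib.SelfThree29.Basic

/-!
# Extensions of a simple group by a normal `3'`-subgroup

Let `x` be a self-centralizing element of order three in `G`, `N` a normal `3'`-subgroup with
`G ⧸ N` simple containing two elements of order three whose product is an involution.  Then `N` is
elementary abelian of exponent two.  If moreover `G ⧸ N` has a subgroup of odd order prime to three
normalized by the image of `x`, then `N` is trivial.
-/

set_option autoImplicit false

namespace CfsgLib.SelfThree29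

open Subgroup

universe u

/-- The identity behind the exponent-two argument. -/
theorem two_mul_prod_eq {R : Type*} [Ring R] (A B : R) (hA : A * A + A + 1 = 0)
    (hB : B * B + B + 1 = 0) (hP : A * B * (A * B) = 1) : 2 * (A * B) = 2 := by
  have hA2 : A * A = -A - 1 := by linear_combination (norm := noncomm_ring) hA
  have hB2 : B * B = -B - 1 := by linear_combination (norm := noncomm_ring) hB
  have hA3 : A * A * A = 1 := by
    rw [hA2]
    linear_combination (norm := noncomm_ring) -hA
  set C := A * B + B * A + A + B with hC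
  have hAC : A * C = C * A := by
    have e1 : A * (A * B) = (-A - 1) * B := by rw [← mul_assoc, hA2]
    have e2 : B * A * A = B * (-A - 1) := by rw [mul_assoc, hA2]
    calc A * C = A * (A * B) + A * B * A + A * A + A * B := by rw [hC]; noncomm_ring
      _ = (-A - 1) * B + A * B * A + A * A + A * B := by rw [e1]
      _ = A * B * A + B * (-A - 1) + A * A + B * A := by noncomm_ring
      _ = A * B * A + B * A * A + A * A + B * A := by rw [e2]
      _ = C * A := by rw [hC]; noncomm_ring
  have hPP : A * B * (A * B) = (C + 1) * (A * B) - 1 := by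
    calc A * B * (A * B) = A * (B * A) * B := by noncomm_ring
      _ = A * (C - A * B - A - B) * B := by rw [hC]; noncomm_ring
      _ = A * C * B - A * A * (B * B) - A * A * B - A * (B * B) := by noncomm_ring
      _ = C * A * B - (-A - 1) * (-B - 1) - (-A - 1) * B - A * (-B - 1) := by
          rw [hAC, hA2, hB2]
      _ = _ := by noncomm_ring
  have h2 : (C + 1) * (A * B) = 2 := by
    rw [hP] at hPP
    rw [eq_add_of_sub_eq hPP.symm, one_add_one_eq_two]
  have hC1 : C + 1 = 2 * (A * B) := by
    calc C + 1 = (C + 1) * (A * B * (A * B)) := by rw [hP, mul_one]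
      _ = (C + 1) * (A * B) * (A * B) := by noncomm_ring
      _ = _ := by rw [h2]
  have hcomm : A * (2 * (A * B)) = 2 * (A * B) * A := by
    rw [← hC1, mul_add, add_mul, hAC, mul_one, one_mul]
  have hswap : 2 * (A * B) = 2 * (B * A) := by
    calc 2 * (A * B) = 2 * (A * A * A * (A * B)) := by rw [hA3, one_mul]
      _ = A * A * (A * (2 * (A * B))) := by noncomm_ring
      _ = A * A * (2 * (A * B) * A) := by rw [hcomm]
      _ = 2 * (A * A * A * (B * A)) := by noncomm_ring
      _ = _ := by rw [hA3, one_mul]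
  have hB3 : B * B * B = 1 := by
    rw [hB2]
    linear_combination (norm := noncomm_ring) -hB
  have hABA : A * B * A = B * B := by
    calc A * B * A = A * B * A * (B * B * B) := by rw [hB3, mul_one]
      _ = A * B * (A * B) * (B * B) := by noncomm_ring
      _ = _ := by rw [hP, one_mul]
  have hR : 2 * (A * (B * B) * A) = 2 := by
    calc 2 * (A * (B * B) * A) = A * B * (2 * (B * A)) := by noncomm_ring
      _ = A * B * (2 * (A * B)) := by rw [hswap]
      _ = 2 * (A * B * (A * B)) := by noncomm_ring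
      _ = 2 := by rw [hP, mul_one]
  rw [← hABA] at hR
  calc 2 * (A * B) = A * A * A * (2 * (A * B)) * (A * A * A) := by rw [hA3]; simp
    _ = A * A * (2 * (A * (A * B * A) * A)) * A := by noncomm_ring
    _ = A * A * 2 * A := by rw [hR]
    _ = 2 * (A * A * A) := by noncomm_ring
    _ = 2 := by rw [hA3, mul_one]

section
variable {G : Type u} [Group G] [Finite G]

/-- Conjugation by an element of order three on a normal `3'`-subgroup. -/
theorem SC3.conj_three {x : G} (hx : SC3 x) (v : G) :
    x * (x * (x * v * x⁻¹) * x⁻¹) * x⁻¹ = v := by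
  calc x * (x * (x * v * x⁻¹) * x⁻¹) * x⁻¹ = (x * (x * x)) * v * (x * (x * x))⁻¹ := by
        simp only [mul_inv_rev, mul_assoc]
    _ = v := by rw [hx.mul_self, mul_inv_cancel]; simp

theorem SC3.conj_fpf {x : G} (hx : SC3 x) (N : Subgroup G) [hN : N.Normal]
    (h3 : ¬ 3 ∣ Nat.card N) {g : G} (hg : orderOf g = 3) :
    (∀ n : N, MulAut.conjNormal g (MulAut.conjNormal g (MulAut.conjNormal g n)) = n) ∧
      ∀ n : N, MulAut.conjNormal g n = n → n = 1 := by
  have hgx := hx.of_orderOf hg
  refine ⟨fun n => ?_, fun n hn => Subtype.ext (hgx.eq_one_of_commute h3 n.2 ?_)⟩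
  · rw [← MulAut.mul_apply, ← MulAut.mul_apply, ← map_mul, ← map_mul]
    have : g * g * g = 1 := by rw [← hgx.cube, pow_succ, pow_succ, pow_one]
    rw [this, map_one, MulAut.one_apply]
  · have := congrArg Subtype.val hn
    rw [MulAut.conjNormal_apply, mul_inv_eq_iff_eq_mul] at this
    exact this.symm

theorem SC3.comm_self_conj {x : G} (hx : SC3 x) (N : Subgroup G) [hN : N.Normal]
    (h3 : ¬ 3 ∣ Nat.card N) {g : G} (hg : orderOf g = 3) (n : N) :
    n * MulAut.conjNormal g n = MulAut.conjNormal g n * n :=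
  let ⟨h1, h2⟩ := hx.conj_fpf N h3 hg
  commute_map _ h1 h2 n

/-- The action of `G ⧸ N` on an abelian `N`. -/
noncomputable def quotAction (N : Subgroup G) [N.Normal] (hc : ∀ a b : N, a * b = b * a) :
    G ⧸ N →* AddMonoid.End (Additive N) :=
  QuotientGroup.lift N
    { toFun := fun g => MonoidHom.toAdditive (MulAut.conjNormal g : MulAut N).toMonoidHom
      map_one' := DFunLike.ext _ _ fun n => by
        show Additive.ofMul ((MulAut.conjNormal (1 : G) : MulAut N) (Additive.toMul n)) = n
        rw [map_one]; rfl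
      map_mul' := fun g h => DFunLike.ext _ _ fun n => by
        show Additive.ofMul ((MulAut.conjNormal (g * h) : MulAut N) (Additive.toMul n)) =
          Additive.ofMul (MulAut.conjNormal g (MulAut.conjNormal h (Additive.toMul n)))
        rw [map_mul]; rfl }
    (fun g hg => by
      rw [MonoidHom.mem_ker]
      ext n
      have hh := hc ⟨g, hg⟩ (Additive.toMul n)
      have := congrArg Subtype.val hh
      simp only [coe_mul] at this
      simp only [MonoidHom.coe_mk, OneHom.coe_mk]
      show g * ((Additive.toMul n : N) : G) * g⁻¹ = ((Additive.toMul n : N) : G)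
      rw [this]
      group)

theorem quotAction_mk (N : Subgroup G) [N.Normal] (hc : ∀ a b : N, a * b = b * a) (g : G)
    (n : N) : quotAction N hc (g : G ⧸ N) (Additive.ofMul n) =
      Additive.ofMul (MulAut.conjNormal g n) := rfl

theorem endo_three {x : G} (hx : SC3 x) (N : Subgroup G) [N.Normal] (h3 : ¬ 3 ∣ Nat.card N)
    (hc : ∀ a b : N, a * b = b * a) {h : G ⧸ N} (hh : orderOf h = 3) :
    letI : AddCommGroup (Additive N) := { (inferInstance : AddGroup (Additive N)) with
      add_comm := fun a b => hc a b }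
    quotAction N hc h * quotAction N hc h + quotAction N hc h + 1 = 0 := by
  letI : AddCommGroup (Additive N) := { (inferInstance : AddGroup (Additive N)) with
      add_comm := fun a b => hc a b }
  obtain ⟨g, rfl, hg⟩ := hx.exists_lift N h3 hh
  obtain ⟨h1, h2⟩ := hx.conj_fpf N h3 hg
  refine DFunLike.ext _ _ fun n => ?_
  show quotAction N hc (g : G ⧸ N) (quotAction N hc (g : G ⧸ N) n) + quotAction N hc (g : G ⧸ N) n
    + n = 0
  induction n using Additive.rec with | _ n => ?_
  have e : ((MulAut.conjNormal g) ((MulAut.conjNormal g) n)) * (MulAut.conjNormal g) n * n = 1 := by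
    rw [← mul_three (MulAut.conjNormal g) h1 h2 n, hc (MulAut.conjNormal g (MulAut.conjNormal g n)),
      mul_assoc, hc _ n, ← mul_assoc, hc (MulAut.conjNormal g n) n]
  rw [quotAction_mk, quotAction_mk]
  exact congrArg Additive.ofMul e

/-- The elements of `G` whose action on `N` fixes all the elements in a given set. -/
theorem fix_eq_top (N : Subgroup G) [N.Normal] [IsSimpleGroup (G ⧸ N)]
    (K : Subgroup (G ⧸ N)) [K.Normal] {q : G ⧸ N} (hq : q ∈ K) (hq1 : q ≠ 1) : K = ⊤ :=
  (Normal.eq_bot_or_eq_top ‹K.Normal›).resolve_left fun h => hq1 (mem_bot.1 (h ▸ hq))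

theorem sq_eq_one {x : G} (hx : SC3 x) (N : Subgroup G) [N.Normal] (h3 : ¬ 3 ∣ Nat.card N)
    (hc : ∀ a b : N, a * b = b * a) [IsSimpleGroup (G ⧸ N)] {a b : G ⧸ N} (ha : orderOf a = 3)
    (hb : orderOf b = 3) (hab : orderOf (a * b) = 2) (n : N) : n * n = 1 := by
  letI : AddCommGroup (Additive N) := { (inferInstance : AddGroup (Additive N)) with
      add_comm := fun a b => hc a b }
  set ρ := quotAction N hc
  have hP : ρ a * ρ b * (ρ a * ρ b) = 1 := by
    rw [← map_mul, ← map_mul, ← sq, ← hab, pow_orderOf_eq_one, map_one]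
  have key := two_mul_prod_eq (ρ a) (ρ b) (endo_three hx N h3 hc ha) (endo_three hx N h3 hc hb) hP
  let K : Subgroup (G ⧸ N) :=
    { carrier := {q | (2 : AddMonoid.End (Additive N)) * ρ q = 2}
      one_mem' := by simp
      mul_mem' := fun {p q} (hp : 2 * ρ p = 2) (hq : 2 * ρ q = 2) => show 2 * ρ (p * q) = 2 by
        rw [map_mul, ← mul_assoc, hp, hq]
      inv_mem' := fun {p} (hp : 2 * ρ p = 2) => show 2 * ρ p⁻¹ = 2 by
        conv_lhs => rw [← hp]
        rw [mul_assoc, ← map_mul, mul_inv_cancel, map_one, mul_one] }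
  have : K.Normal := ⟨fun p (hp : 2 * ρ p = 2) q => show 2 * ρ (q * p * q⁻¹) = 2 by
    have hc2 : ∀ f : AddMonoid.End (Additive N), (2 : AddMonoid.End (Additive N)) * f = f * 2 :=
      fun f => by noncomm_ring
    rw [map_mul, map_mul, mul_assoc, ← mul_assoc 2, hc2, mul_assoc, ← mul_assoc 2, hp, hc2,
      ← mul_assoc, ← map_mul, mul_inv_cancel, map_one, one_mul]⟩
  have hK := fix_eq_top N K (q := a * b) (by
    show 2 * ρ (a * b) = 2
    rw [map_mul]; exact key) (fun e => by rw [e, orderOf_one] at hab; omega)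
  have hxK : 2 * ρ (x : G ⧸ N) = 2 := (hK ▸ mem_top _ : (x : G ⧸ N) ∈ K)
  have h2 := DFunLike.congr_fun hxK (Additive.ofMul n)
  have h2' : (MulAut.conjNormal x n) * (MulAut.conjNormal x n) = n * n := by
    rw [two_mul, ← one_add_one_eq_two] at h2
    exact h2
  refine (hx.conj_fpf N h3 hx.ord).2 _ ?_
  rw [map_mul, h2']

theorem comm_of_class_two {x : G} (hx : SC3 x) (N : Subgroup G) [hN : N.Normal]
    (h3 : ¬ 3 ∣ Nat.card N) (hcl : ∀ m n : N, m * n * m⁻¹ * n⁻¹ ∈ center N)
    [IsSimpleGroup (G ⧸ N)] {a b : G} (ha : orderOf a = 3) (hb : orderOf b = 3)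
    (hab : orderOf (((a * b : G)) : G ⧸ N) = 2) : ∀ m n : N, m * n = n * m := by
  let C : N → N → N := fun m n => m * n * m⁻¹ * n⁻¹
  have hcomm : ∀ m n u : N, C m n * u = u * C m n := fun m n u =>
    (mem_center_iff.1 (hcl m n) u).symm
  have hCl : ∀ m m' n, C (m * m') n = C m n * C m' n := fun m m' n => by
    calc C (m * m') n = m * C m' n * (n * m⁻¹ * n⁻¹) := by simp only [C]; group
      _ = C m' n * (m * n * m⁻¹ * n⁻¹) := by rw [← hcomm]; group
      _ = C m n * C m' n := hcomm m' n _
  have hCr : ∀ m n n', C m (n * n') = C m n * C m n' := fun m n n' => by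
    calc C m (n * n') = (m * n * m⁻¹) * C m n' * n⁻¹ := by simp only [C]; group
      _ = C m n' * (m * n * m⁻¹ * n⁻¹) := by rw [← hcomm]; group
      _ = C m n * C m n' := hcomm m n' _
  let φ : G → MulAut N := fun g => MulAut.conjNormal g
  have hsa : ∀ g, orderOf g = 3 → ∀ m n, C m (φ g n) = C (φ g m) n := by
    intro g hg m n
    have h0 : ∀ u, C u (φ g u) = 1 := fun u => by
      simp only [C]
      rw [show u * φ g u = φ g u * u from hx.comm_self_conj N h3 hg u]
      group
    have h1 := h0 (m * n)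
    rw [map_mul, hCl, hCr, hCr, h0 m, h0 n, one_mul, mul_one] at h1
    have h2 : C n (φ g m) = (C (φ g m) n)⁻¹ := by simp only [C]; group
    rw [h2, mul_inv_eq_one] at h1
    exact h1
  have hφ : ∀ g h n, φ (g * h) n = φ g (φ h n) := fun g h n => by simp [φ]
  have hb' : orderOf (a * b * a⁻¹) = 3 := by rw [orderOf_cj]; exact hb
  have e1 : ∀ m n, C m (φ (a * b) n) = C (φ (b * a) m) n := fun m n => by
    rw [hφ, hsa a ha, hsa b hb, ← hφ]
  have e2 : ∀ m n, C m (φ (a * b) n) = C (φ (a * (a * b * a⁻¹)) m) n := fun m n => by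
    have : a * b = (a * b * a⁻¹) * a := by group
    conv_lhs => rw [this]
    rw [hφ, hsa _ hb', hsa a ha, ← hφ]
  set u := a * (a * b * a⁻¹) * (b * a)⁻¹ with hu
  have e3 : ∀ r n, C r n = C (φ u r) n := fun r n => by
    have := (e1 (φ (b * a)⁻¹ r) n).symm.trans (e2 _ n)
    rw [← hφ, ← hφ, mul_inv_cancel] at this
    simpa [φ, hu] using this
  have hK : ∀ r : N, r⁻¹ * φ u r ∈ center N := fun r => mem_center_iff.2 fun n => by
    have h1 : C (r⁻¹ * φ u r) n = 1 := by
      rw [hCl, ← e3, ← hCl, inv_mul_cancel]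
      simp [C]
    simp only [C] at h1
    calc n * (r⁻¹ * φ u r) = ((r⁻¹ * φ u r) * n * (r⁻¹ * φ u r)⁻¹ * n⁻¹) * n * (r⁻¹ * φ u r) := by
          rw [h1, one_mul]
      _ = _ := by group
  have hcen : ∀ g (z : N), z ∈ center N → φ g z ∈ center N := fun g z hz =>
    mem_center_iff.2 fun n => by
      obtain ⟨n, rfl⟩ := (φ g).surjective n
      rw [← map_mul, ← map_mul, mem_center_iff.1 hz n]
  let K : Subgroup G :=
    { carrier := {g | ∀ r : N, r⁻¹ * φ g r ∈ center N}
      one_mem' := fun r => by simp [φ]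
      mul_mem' := fun {g h} hg hh r => by
        rw [hφ, show r⁻¹ * φ g (φ h r) = (r⁻¹ * φ g r) * φ g (r⁻¹ * φ h r) by
          rw [map_mul, map_inv]; group]
        exact mul_mem (hg r) (hcen g _ (hh r))
      inv_mem' := fun {g} hg r => by
        have := inv_mem (hcen g⁻¹ _ (hg r))
        rwa [map_mul, map_inv, ← hφ, inv_mul_cancel, show φ 1 r = r by simp [φ],
          mul_inv_rev, inv_inv] at this }
  have hKn : K.Normal := ⟨fun g hg h r => by
    obtain ⟨s, rfl⟩ := (φ h).surjective r
    rw [← map_inv, ← hφ, show h * g * h⁻¹ * h = h * g by group, hφ, ← map_mul]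
    exact hcen h _ (hg s)⟩
  have hNK : N ≤ K := fun k hk r => by
    have : r⁻¹ * φ k r = r⁻¹ * ⟨k, hk⟩ * (r⁻¹)⁻¹ * (⟨k, hk⟩ : N)⁻¹ := by
      rw [inv_inv]
      apply Subtype.ext
      simp [φ, mul_assoc]
    rw [this]
    exact hcl _ _
  have huK : u ∈ K := hK
  have huN : (u : G ⧸ N) ≠ 1 := by
    intro e
    have hA : (a : G ⧸ N) ^ 3 = 1 := by
      rw [← QuotientGroup.mk_pow, ← ha, pow_orderOf_eq_one]; rfl
    have hB : (b : G ⧸ N) ^ 3 = 1 := by
      rw [← QuotientGroup.mk_pow, ← hb, pow_orderOf_eq_one]; rfl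
    simp only [hu, QuotientGroup.mk_mul, QuotientGroup.mk_inv, mul_inv_eq_one] at e
    set A := (a : G ⧸ N)
    set B := (b : G ⧸ N)
    have e' : A * A * B = B * A * A := by
      calc A * A * B = A * (A * B * A⁻¹) * A := by group
        _ = B * A * A := by rw [e]
    have hAA : A = A * A * (A * A) := by
      calc A = A ^ 3 * A := by rw [hA, one_mul]
        _ = A * A * (A * A) := by simp [pow_three, mul_assoc]
    have hcc : Commute (A * A) B := e'.trans (mul_assoc _ _ _)
    have hAB : A * B = B * A := by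
      rw [hAA]
      exact (hcc.mul_left hcc).eq
    have hc : Commute A B := hAB
    have h6 : (A * B) ^ 3 = 1 := by rw [hc.mul_pow, hA, hB, one_mul]
    have := orderOf_dvd_of_pow_eq_one h6
    rw [← QuotientGroup.mk_mul, hab] at this
    norm_num at this
  have : (K.map (QuotientGroup.mk' N)).Normal :=
    hKn.map _ (QuotientGroup.mk'_surjective N)
  have htop := fix_eq_top N _ (mem_map_of_mem (QuotientGroup.mk' N) huK) huN
  have hKtop : K = ⊤ := by
    have := congrArg (Subgroup.comap (QuotientGroup.mk' N)) htop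
    rwa [comap_map_eq, QuotientGroup.ker_mk', comap_top, sup_eq_left.2 hNK] at this
  have hxK : ∀ r : N, r⁻¹ * φ x r ∈ center N := (hKtop ▸ mem_top x : x ∈ K)
  obtain ⟨-, hf⟩ := hx.conj_fpf N h3 hx.ord
  intro m n
  obtain ⟨⟨w, hw⟩, hwe⟩ := ((Finite.injective_iff_surjective
    (f := fun w : center N => (⟨(w : N)⁻¹ * φ x w,
      mul_mem (inv_mem w.2) (hcen x _ w.2)⟩ : center N))).1 fun p q e => by
        have e' : (p : N)⁻¹ * φ x p = (q : N)⁻¹ * φ x q := congrArg Subtype.val e
        refine Subtype.ext (eq_of_mul_inv_eq_one (hf _ ?_)).symm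
        show φ x ((q : N) * (p : N)⁻¹) = (q : N) * (p : N)⁻¹
        rw [map_mul, map_inv]
        calc φ x q * (φ x p)⁻¹ = q * ((q : N)⁻¹ * φ x q) * (φ x p)⁻¹ := by group
          _ = _ := by rw [← e']; group) ⟨_, hxK n⟩
  have hwe' : w⁻¹ * φ x w = n⁻¹ * φ x n := congrArg Subtype.val hwe
  have : n = w := by
    refine eq_of_mul_inv_eq_one (hf _ ?_)
    show φ x (n * w⁻¹) = n * w⁻¹
    rw [map_mul, map_inv]
    calc φ x n * (φ x w)⁻¹ = n * (n⁻¹ * φ x n) * (φ x w)⁻¹ := by group
      _ = _ := by rw [← hwe']; group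
  rw [this]
  exact mem_center_iff.1 hw m

end

/-- A normal `3'`-subgroup with simple quotient containing two elements of order three with product
an involution is abelian. -/
theorem comm_aux : ∀ (k : ℕ) {G : Type u} [Group G] [Finite G] {x : G}, SC3 x →
    ∀ (N : Subgroup G) [N.Normal], Nat.card N = k → ¬ 3 ∣ Nat.card N → IsSimpleGroup (G ⧸ N) →
    ∀ {a b : G ⧸ N}, orderOf a = 3 → orderOf b = 3 → orderOf (a * b) = 2 →
    ∀ m n : N, m * n = n * m := by
  intro k
  induction k using Nat.strong_induction_on with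
  | _ k ih =>
  intro G _ _ x hx N hNn hk h3 hsimp a b ha hb hab
  rcases subsingleton_or_nontrivial N with hs | hs
  · exact fun m n => Subsingleton.elim _ _
  have hnil : Group.IsNilpotent N := hx.isNilpotent (by rw [normalizer_eq_top]; exact mem_top x) h3
  set Z := (center N).map N.subtype with hZdef
  have hZn : Z.Normal := ⟨fun z hz g => by
    obtain ⟨w, hw, rfl⟩ := hz
    refine ⟨MulAut.conjNormal g w, mem_center_iff.2 fun n => ?_, rfl⟩
    obtain ⟨n, rfl⟩ := (MulAut.conjNormal g : MulAut N).surjective n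
    rw [← map_mul, ← map_mul, mem_center_iff.1 hw n]⟩
  have hZN : Z ≤ N := map_subtype_le _
  have hZ3 : ¬ 3 ∣ Nat.card Z := fun h => h3 (h.trans (card_dvd_of_le hZN))
  have hcZ : Nat.card Z = Nat.card (center N) := card_map_of_injective N.subtype_injective
  set N' := N.map (QuotientGroup.mk' Z) with hN'
  have hN'n : N'.Normal := hNn.map _ (QuotientGroup.mk'_surjective Z)
  have hcard : Nat.card N = Nat.card N' * Nat.card Z := by
    let f : N →* N' := (QuotientGroup.mk' Z).subgroupMap N
    have hf : Function.Surjective f := MonoidHom.subgroupMap_surjective _ _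
    rw [Subgroup.card_eq_card_quotient_mul_card_subgroup f.ker,
      Nat.card_congr (QuotientGroup.quotientKerEquivOfSurjective f hf).toEquiv]
    congr 1
    have : f.ker = Z.subgroupOf N := by
      ext n
      rw [MonoidHom.mem_ker, Subtype.ext_iff, mem_subgroupOf]
      exact QuotientGroup.eq_one_iff _
    rw [this]
    exact Nat.card_congr (Subgroup.subgroupOfEquivOfLe hZN).toEquiv
  have hlt : Nat.card N' < k := by
    rw [← hk, hcard]
    refine lt_mul_of_one_lt_right Nat.card_pos ?_
    rw [hcZ, one_lt_card_iff_ne_bot]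
    intro hbot
    have he : (⊥ : Subgroup N) = center N := hbot.symm
    have h1 : Group.nilpotencyClass (N ⧸ center N) = Group.nilpotencyClass N - 1 :=
      Group.nilpotencyClass_quotient_center
    have h2 := Group.nilpotencyClass_eq_quotient_center_plus_one (G := N)
    let eN : N ⧸ center N ≃* N :=
      (QuotientGroup.quotientMulEquivOfEq he.symm).trans QuotientGroup.quotientBot
    have h4 : Group.nilpotencyClass N ≤ Group.nilpotencyClass (N ⧸ center N) :=
      Group.nilpotencyClass_le_of_surjective eN.toMonoidHom eN.surjective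
    omega
  let e : (G ⧸ Z) ⧸ N' ≃* G ⧸ N := QuotientGroup.quotientQuotientEquivQuotient Z N hZN
  have hsimp' : IsSimpleGroup ((G ⧸ Z) ⧸ N') := MulEquiv.isSimpleGroup e
  have hab' := ih _ hlt (hx.quotient Z hZ3) N' rfl
    (fun h => h3 (hcard ▸ h.mul_right _)) hsimp'
    (a := e.symm a) (b := e.symm b) (by rw [MulEquiv.orderOf_eq]; exact ha)
    (by rw [MulEquiv.orderOf_eq]; exact hb)
    (by rw [← map_mul, MulEquiv.orderOf_eq]; exact hab)
  have hcl : ∀ m n : N, m * n * m⁻¹ * n⁻¹ ∈ center N := by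
    intro m n
    have := congrArg Subtype.val (hab' ⟨_, mem_map_of_mem (QuotientGroup.mk' Z) m.2⟩
      ⟨_, mem_map_of_mem (QuotientGroup.mk' Z) n.2⟩)
    simp only [coe_mul, QuotientGroup.mk'_apply] at this
    have hmem : ((m * n * m⁻¹ * n⁻¹ : N) : G) ∈ Z := by
      rw [← QuotientGroup.eq_one_iff]
      simp only [coe_mul, InvMemClass.coe_inv, QuotientGroup.mk_mul, QuotientGroup.mk_inv]
      rw [this]
      group
    obtain ⟨w, hw, hwe⟩ := hmem
    have hw' : w = m * n * m⁻¹ * n⁻¹ := N.subtype_injective hwe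
    exact hw' ▸ hw
  obtain ⟨a', rfl, ha'⟩ := hx.exists_lift N h3 ha
  obtain ⟨b', rfl, hb'⟩ := hx.exists_lift N h3 hb
  exact comm_of_class_two hx N h3 hcl ha' hb' (by rwa [QuotientGroup.mk_mul])

variable {G : Type u} [Group G] [Finite G]

theorem SC3.ext_elementary {x : G} (hx : SC3 x) (N : Subgroup G) [N.Normal]
    (h3 : ¬ 3 ∣ Nat.card N) [IsSimpleGroup (G ⧸ N)] {a b : G ⧸ N} (ha : orderOf a = 3)
    (hb : orderOf b = 3) (hab : orderOf (a * b) = 2) :
    IsMulCommutative N ∧ ∀ n ∈ N, n ^ 2 = 1 := by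
  have hc := comm_aux _ hx N rfl h3 inferInstance ha hb hab
  refine ⟨⟨⟨hc⟩⟩, fun n hn => ?_⟩
  have := congrArg Subtype.val (sq_eq_one hx N h3 hc ha hb hab ⟨n, hn⟩)
  rw [sq]
  simpa using this

theorem SC3.ext_trivial {x : G} (hx : SC3 x) (N : Subgroup G) [N.Normal]
    (h3 : ¬ 3 ∣ Nat.card N) [IsSimpleGroup (G ⧸ N)] {a b : G ⧸ N} (ha : orderOf a = 3)
    (hb : orderOf b = 3) (hab : orderOf (a * b) = 2) (P : Subgroup (G ⧸ N)) (hP1 : P ≠ ⊥)
    (hPc : ∀ p q : P, p * q = q * p) (hPodd : Odd (Nat.card P)) (hP3 : ¬ 3 ∣ Nat.card P)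
    (hPx : ∀ p ∈ P, (x : G ⧸ N) * p * (x : G ⧸ N)⁻¹ ∈ P) : N = ⊥ := by
  have hc := comm_aux _ hx N rfl h3 inferInstance ha hb hab
  have hsq := sq_eq_one hx N h3 hc ha hb hab
  letI : AddCommGroup (Additive N) := { (inferInstance : AddGroup (Additive N)) with
      add_comm := fun a b => hc a b }
  set ρ := quotAction N hc with hρ
  set X : G ⧸ N := (x : G ⧸ N) with hX
  have hXs : SC3 X := hx.quotient N h3
  have hfin := Fintype.ofFinite P
  let φ : P → P := fun p => ⟨X * (p : G ⧸ N) * X⁻¹, hPx _ p.2⟩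
  have hψinj : Function.Injective (fun p : P => p * φ p) := by
    intro p q e
    have e' : p * φ p = q * φ q := e
    have hφm : φ (p * q⁻¹) = φ p * (φ q)⁻¹ := Subtype.ext (by
      simp only [φ, coe_mul, InvMemClass.coe_inv]; group)
    set r := p * q⁻¹
    have h1 : r * φ r = 1 := by
      rw [hφm]
      calc p * q⁻¹ * (φ p * (φ q)⁻¹) = p * φ p * (q * φ q)⁻¹ := by
            rw [mul_inv_rev, mul_assoc, ← mul_assoc q⁻¹, hPc q⁻¹ (φ p), mul_assoc (φ p),
              hPc q⁻¹, ← mul_assoc]
        _ = 1 := by rw [e', mul_inv_cancel]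
    have h2 : φ r = r⁻¹ := eq_inv_of_mul_eq_one_right h1
    have h2' : X * (r : G ⧸ N) * X⁻¹ = (r : G ⧸ N)⁻¹ := congrArg Subtype.val h2
    set v := (r : G ⧸ N)
    have h3' : v = v⁻¹ := by
      calc v = X * (X * (X * v * X⁻¹) * X⁻¹) * X⁻¹ := (hXs.conj_three v).symm
        _ = X * (X * v⁻¹ * X⁻¹) * X⁻¹ := by rw [h2']
        _ = X * (X * v * X⁻¹)⁻¹ * X⁻¹ := by group
        _ = X * v * X⁻¹ := by rw [h2', inv_inv, h2']
        _ = _ := h2'
    have h4 : r * r = 1 := Subtype.ext (by
      show v * v = 1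
      nth_rewrite 2 [h3']
      exact mul_inv_cancel v)
    have h5 : orderOf r ∣ 2 := orderOf_dvd_of_pow_eq_one (by rw [sq]; exact h4)
    have : r = 1 := by
      rcases (Nat.dvd_prime Nat.prime_two).1 h5 with h | h
      · exact orderOf_eq_one_iff.1 h
      · exact absurd (h ▸ orderOf_dvd_natCard r : 2 ∣ Nat.card P) hPodd.not_two_dvd_nat
    exact mul_inv_eq_one.1 this
  have hbij := (Finite.injective_iff_bijective).1 hψinj
  set τ := ∑ p : P, ρ (p : G ⧸ N) with hτ
  have hzero : ∀ p : P, ρ ((p * φ p : P) : G ⧸ N) * ρ (X * X) + ρ (p : G ⧸ N) * ρ X + 1 = 0 := by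
    intro p
    have hord : orderOf ((p : G ⧸ N) * X) = 3 := by
      refine orderOf_eq_prime ?_ ?_
      · let ψ : MulAut P :=
          { toFun := φ
            invFun := fun q => ⟨X⁻¹ * (q : G ⧸ N) * X, by
              have := hPx _ (hPx _ q.2)
              rwa [show X * (X * (q : G ⧸ N) * X⁻¹) * X⁻¹ = (X * X) * q * (X * X)⁻¹ by
                simp only [mul_inv_rev, mul_assoc], hXs.mul_self, inv_inv] at this⟩
            left_inv := fun q => Subtype.ext (by simp only [φ]; group)
            right_inv := fun q => Subtype.ext (by simp only [φ]; group)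
            map_mul' := fun q q' => Subtype.ext (by simp only [φ, coe_mul]; group) }
        have h3p := congrArg Subtype.val (mul_three ψ (fun q => Subtype.ext (by
            exact hXs.conj_three _))
          (fun q hq => Subtype.ext (hXs.eq_one_of_commute hP3 q.2 (by
            have := congrArg Subtype.val hq
            exact (mul_inv_eq_iff_eq_mul.1 this).symm))) p)
        simp only [coe_mul, OneMemClass.coe_one] at h3p
        calc ((p : G ⧸ N) * X) ^ 3
            = (p : G ⧸ N) * (X * p * X⁻¹) * (X * (X * p * X⁻¹) * X⁻¹) * (X * (X * X)) := by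
              simp [pow_three, mul_assoc]
          _ = 1 := by rw [hXs.mul_self, mul_inv_cancel, mul_one]; exact h3p
      · intro e
        exact hXs.not_mem hP3 (eq_inv_of_mul_eq_one_right e ▸ inv_mem p.2)
    have h := endo_three hx N h3 hc hord
    rw [← map_mul, ← hρ] at h
    rw [← map_mul, ← map_mul, show ((p * φ p : P) : G ⧸ N) * (X * X) =
      (p : G ⧸ N) * X * ((p : G ⧸ N) * X) by simp only [φ, coe_mul]; group]
    exact h
  have hsum : τ * ρ (X * X) + τ * ρ X + (Fintype.card P : AddMonoid.End (Additive N)) = 0 := by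
    calc _ = ∑ p : P, (ρ ((p * φ p : P) : G ⧸ N) * ρ (X * X) + ρ (p : G ⧸ N) * ρ X + 1) := by
          rw [Finset.sum_add_distrib, Finset.sum_add_distrib, ← Finset.sum_mul, ← Finset.sum_mul,
            ← Finset.card_univ, Finset.sum_const, nsmul_one]
          congr 3
          exact (Equiv.sum_comp (Equiv.ofBijective _ hbij) fun p : P => ρ (p : G ⧸ N)).symm
      _ = 0 := Finset.sum_eq_zero fun p _ => hzero p
  have hτn : τ = (Fintype.card P : AddMonoid.End (Additive N)) := by
    have h := endo_three hx N h3 hc hXs.ord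
    rw [← map_mul, ← hρ] at h
    calc τ = τ + (τ * ρ (X * X) + τ * ρ X + (Fintype.card P : AddMonoid.End (Additive N))) := by
          rw [hsum, add_zero]
      _ = τ * (ρ (X * X) + ρ X + 1) + (Fintype.card P : AddMonoid.End (Additive N)) := by
          noncomm_ring
      _ = _ := by rw [h, mul_zero, zero_add]
  have h2zero : (2 : AddMonoid.End (Additive N)) = 0 := by
    rw [← one_add_one_eq_two]
    apply AddMonoidHom.ext
    intro n
    exact congrArg Additive.ofMul (hsq (Additive.toMul n))
  have hone : (Fintype.card P : AddMonoid.End (Additive N)) = 1 := by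
    obtain ⟨k, hk⟩ := hPodd
    rw [← Nat.card_eq_fintype_card, hk]
    push_cast
    rw [h2zero, zero_mul, zero_add]
  obtain ⟨p, hp1⟩ : ∃ p : P, p ≠ 1 := by
    have := (nontrivial_iff_ne_bot P).2 hP1
    exact exists_ne 1
  have hp : ρ (p : G ⧸ N) = 1 := by
    have : τ * ρ (p : G ⧸ N) = τ := by
      rw [hτ, Finset.sum_mul]
      exact Fintype.sum_equiv (Equiv.mulRight p) _ _ fun q => by simp
    rwa [hτn, hone, one_mul] at this
  have hker := fix_eq_top N ρ.ker (q := (p : G ⧸ N)) (MonoidHom.mem_ker.2 hp)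
    fun e => hp1 (Subtype.ext e)
  refine eq_bot_iff.2 fun n hn => mem_bot.2 (congrArg Subtype.val
    ((hx.conj_fpf N h3 hx.ord).2 ⟨n, hn⟩ ?_))
  have h1 : ρ X = 1 := MonoidHom.mem_ker.1 (hker ▸ mem_top _)
  exact DFunLike.congr_fun h1 (Additive.ofMul (⟨n, hn⟩ : N))

end CfsgLib.SelfThree29
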