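import Mathlib

/-!
# Fixed-point-free actions of `Z/3` and of `S₃`

For a fixed-point-free automorphism `φ` with `φ³ = 1`: `q * φ q * φ² q = 1` and `q` commutes with
`φ q`.  If moreover `σ` is an involution inverting `φ` and the group is nilpotent, then the order
of the group is the square of the number of fixed points of `σ`.
-/

set_option autoImplicit false

namespace CfsgLib.SelfThree29

open Subgroup

variable {Q : Type*} [Group Q]

theorem mul_three [Finite Q] (φ : MulAut Q) (h3 : ∀ q, φ (φ (φ q)) = q)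
    (hf : ∀ q, φ q = q → q = 1) (q : Q) : q * φ q * φ (φ q) = 1 := by
  have hinj : Function.Injective (fun r : Q => r⁻¹ * φ r) := fun a b h => by
    have h' : a⁻¹ * φ a = b⁻¹ * φ b := h
    refine (eq_of_mul_inv_eq_one (hf (b * a⁻¹) ?_)).symm
    rw [map_mul, map_inv]
    calc φ b * (φ a)⁻¹ = b * (b⁻¹ * φ b) * (φ a)⁻¹ := by group
      _ = _ := by rw [← h']; group
  obtain ⟨r, rfl⟩ := (Finite.injective_iff_surjective.1 hinj) q
  simp only [map_mul, map_inv, h3]
  group

theorem commute_map [Finite Q] (φ : MulAut Q) (h3 : ∀ q, φ (φ (φ q)) = q)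
    (hf : ∀ q, φ q = q → q = 1) (q : Q) : Commute q (φ q) := by
  have hψ : ∀ r, (φ * φ : MulAut Q) r = φ (φ r) := fun r => rfl
  have key : ∀ r, Commute (φ r) (φ (φ r)) := by
    intro r
    have h1 := mul_three φ h3 hf r
    have h2 := mul_three (φ * φ) (fun u => by simp only [hψ, h3]) (fun u hu => hf u (by
      conv_lhs => rw [← hu]
      exact h3 u)) r
    simp only [hψ, h3] at h2
    show φ r * φ (φ r) = φ (φ r) * φ r
    rw [mul_assoc] at h1 h2
    exact mul_left_cancel (h1.trans h2.symm)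
  have := key (φ (φ q))
  rwa [h3] at this

theorem commute_of_three [Finite Q] (φ : MulAut Q) (h3 : ∀ q, φ (φ (φ q)) = q)
    (hf : ∀ q, φ q = q → q = 1) (q : Q) : Commute q (φ (φ q)) := by
  have := (commute_map φ h3 hf (φ (φ q)))
  rw [h3] at this
  exact this.symm

/-- An action of `S₃` in which the element of order three fixes only the identity. -/
structure SThree (φ σ : MulAut Q) : Prop where
  three : ∀ q, φ (φ (φ q)) = q
  two : ∀ q, σ (σ q) = q
  rel : ∀ q, σ (φ q) = φ (φ (σ q))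
  fpf : ∀ q, φ q = q → q = 1

/-- The fixed points of an automorphism. -/
def fixSub (σ : MulAut Q) : Subgroup Q where
  carrier := {q | σ q = q}
  one_mem' := map_one σ
  mul_mem' := fun {a b} (ha : σ a = a) (hb : σ b = b) => show σ (a * b) = a * b by
    rw [map_mul, ha, hb]
  inv_mem' := fun {a} (ha : σ a = a) => show σ a⁻¹ = a⁻¹ by rw [map_inv, ha]

theorem mem_fixSub {σ : MulAut Q} {q : Q} : q ∈ fixSub σ ↔ σ q = q := Iff.rfl

namespace SThree

variable {φ σ : MulAut Q} (h : SThree φ σ)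
include h

/-- The fixed points of `σ` and of `σ φ` correspond under `φ`. -/
def fixEquiv : fixSub σ ≃ fixSub (σ * φ) where
  toFun q := ⟨φ q, by
    show σ (φ (φ (q : Q))) = φ q
    rw [h.rel, h.rel, h.three, mem_fixSub.1 q.2]⟩
  invFun q := ⟨φ (φ q), by
    have hq : σ (φ (q : Q)) = q := q.2
    show σ (φ (φ (q : Q))) = φ (φ q)
    rw [h.rel, hq]⟩
  left_inv q := Subtype.ext (h.three q)
  right_inv q := Subtype.ext (h.three q)

theorem card_fix_tau : Nat.card (fixSub (σ * φ)) = Nat.card (fixSub σ) :=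
  (Nat.card_congr h.fixEquiv).symm

theorem sq_le_card [Finite Q] : Nat.card (fixSub σ) ^ 2 ≤ Nat.card Q := by
  have hinj : Function.Injective
      (fun p : fixSub σ × fixSub (σ * φ) => (p.1 : Q) * (p.2 : Q)) := by
    rintro ⟨⟨a, ha⟩, ⟨b, hb⟩⟩ ⟨⟨c, hc⟩, ⟨d, hd⟩⟩ e
    simp only at e
    have e2 : c⁻¹ * a = d * b⁻¹ := by rw [eq_mul_inv_iff_mul_eq, mul_assoc, e]; group
    have h1 : σ (c⁻¹ * a) = c⁻¹ * a := mul_mem (inv_mem hc) ha
    have h2 : σ (φ (c⁻¹ * a)) = c⁻¹ * a := by rw [e2]; exact mul_mem hd (inv_mem hb)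
    have h3 := h.fpf _ (σ.injective (h2.trans h1.symm))
    obtain rfl := (eq_of_inv_mul_eq_one h3).symm
    obtain rfl := mul_left_cancel e
    rfl
  calc Nat.card (fixSub σ) ^ 2 = Nat.card (fixSub σ × fixSub (σ * φ)) := by
        rw [Nat.card_prod, h.card_fix_tau, sq]
    _ ≤ _ := Nat.card_le_card_of_injective _ hinj

theorem card_le_of_comm [Finite Q] (hc : ∀ a b : Q, a * b = b * a) :
    Nat.card Q ≤ Nat.card (fixSub σ) ^ 2 := by
  have h1 : ∀ q, q * σ q ∈ fixSub σ := fun q => by
    rw [mem_fixSub, map_mul, h.two, hc]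
  have hτ : ∀ q, σ (φ (σ (φ q))) = q := fun q => by rw [h.rel, h.two, h.three]
  have h2 : ∀ q, q * σ (φ q) ∈ fixSub (σ * φ) := fun q => by
    show σ (φ (q * σ (φ q))) = q * σ (φ q)
    rw [map_mul, map_mul, hτ, hc]
  have hinj : Function.Injective
      (fun q : Q => ((⟨_, h1 q⟩ : fixSub σ), (⟨_, h2 q⟩ : fixSub (σ * φ)))) := by
    intro a b e
    simp only [Prod.mk.injEq, Subtype.mk.injEq] at e
    obtain ⟨e1, e2⟩ := e
    have h3 : σ (a * b⁻¹) = (a * b⁻¹)⁻¹ := by
      rw [map_mul, map_inv, mul_inv_rev, inv_inv, eq_comm, eq_mul_inv_iff_mul_eq]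
      calc b * a⁻¹ * σ b = a⁻¹ * (b * σ b) := by rw [hc b, mul_assoc]
        _ = a⁻¹ * (a * σ a) := by rw [e1]
        _ = σ a := by group
    have h4 : σ (φ (a * b⁻¹)) = (a * b⁻¹)⁻¹ := by
      rw [map_mul, map_inv, map_mul, map_inv, mul_inv_rev, inv_inv, eq_comm,
        eq_mul_inv_iff_mul_eq]
      calc b * a⁻¹ * σ (φ b) = a⁻¹ * (b * σ (φ b)) := by rw [hc b, mul_assoc]
        _ = a⁻¹ * (a * σ (φ a)) := by rw [e2]
        _ = σ (φ a) := by group
    exact eq_of_mul_inv_eq_one (h.fpf _ (σ.injective (h4.trans h3.symm)))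
  calc Nat.card Q ≤ Nat.card (fixSub σ × fixSub (σ * φ)) :=
        Nat.card_le_card_of_injective _ hinj
    _ = _ := by rw [Nat.card_prod, h.card_fix_tau, sq]

end SThree

/-- The automorphism induced on the centre. -/
def centerAut (σ : MulAut Q) : MulAut (center Q) := Subgroup.centerCongr σ

theorem centerAut_apply (σ : MulAut Q) (z : center Q) : (centerAut σ z : Q) = σ z := rfl

/-- The automorphism induced on the quotient by the centre. -/
def quotCenterAut (σ : MulAut Q) : MulAut (Q ⧸ center Q) :=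
  QuotientGroup.congr (center Q) (center Q) σ
    (Subgroup.characteristic_iff_map_eq.1 inferInstance σ)

theorem quotCenterAut_mk (σ : MulAut Q) (q : Q) :
    quotCenterAut σ (q : Q ⧸ center Q) = ((σ q : Q) : Q ⧸ center Q) := rfl

theorem SThree.card_le {Q : Type*} [Group Q] [Group.IsNilpotent Q] :
    ∀ [Finite Q] {φ σ : MulAut Q}, SThree φ σ → Nat.card Q ≤ Nat.card (fixSub σ) ^ 2 := by
  refine @Group.nilpotent_center_quotient_ind (fun Q _ _ => ∀ [Finite Q] {φ σ : MulAut Q},
    SThree φ σ → Nat.card Q ≤ Nat.card (fixSub σ) ^ 2) Q _ _ ?_ ?_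
  · intro Q _ _ _ φ σ _
    rw [Nat.card_of_subsingleton (1 : Q)]
    exact Nat.one_le_pow _ _ Nat.card_pos
  intro Q _ _ ih _ φ σ h
  set Z := center Q with hZdef
  have hfix : ∀ q : Q, φ q = q → q = 1 := h.fpf
  have hZ : SThree (centerAut φ) (centerAut σ) :=
    ⟨fun q => Subtype.ext (h.three q), fun q => Subtype.ext (h.two q),
      fun q => Subtype.ext (h.rel q),
      fun q hq => Subtype.ext (hfix _ (congrArg Subtype.val hq))⟩
  have hQ : SThree (quotCenterAut φ) (quotCenterAut σ) := by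
    refine ⟨fun q => ?_, fun q => ?_, fun q => ?_, fun q => ?_⟩ <;>
      induction q using QuotientGroup.induction_on with | _ q => ?_
    · simp only [quotCenterAut_mk, h.three]
    · simp only [quotCenterAut_mk, h.two]
    · simp only [quotCenterAut_mk, h.rel]
    · intro hq
      rw [quotCenterAut_mk, QuotientGroup.eq] at hq
      obtain ⟨w, hw⟩ := ((Finite.injective_iff_surjective
        (f := fun w : Z => w⁻¹ * centerAut φ w)).1 fun a b e => by
          have e' : a⁻¹ * centerAut φ a = b⁻¹ * centerAut φ b := e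
          refine (eq_of_mul_inv_eq_one (hZ.fpf (b * a⁻¹) ?_)).symm
          rw [map_mul, map_inv]
          calc centerAut φ b * (centerAut φ a)⁻¹
              = b * (b⁻¹ * centerAut φ b) * (centerAut φ a)⁻¹ := by group
            _ = _ := by rw [← e']; group) ⟨_, hq⟩
      have hw' : (w : Q)⁻¹ * φ w = (φ q)⁻¹ * q := congrArg Subtype.val hw
      have hc : ∀ u, (w : Q) * u = u * w := fun u => (mem_center_iff.1 w.2 u).symm
      have h1 : φ (q * w) = q * w := by
        rw [map_mul]
        calc φ q * φ w = φ q * ((w : Q) * ((w : Q)⁻¹ * φ w)) := by group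
          _ = φ q * ((φ q)⁻¹ * q * w) := by rw [hw', hc]
          _ = _ := by group
      rw [QuotientGroup.eq_one_iff]
      have := hfix _ h1
      rw [mul_eq_one_iff_eq_inv] at this
      exact this ▸ inv_mem w.2
  let π : fixSub σ →* fixSub (quotCenterAut σ) :=
    { toFun := fun q => ⟨((q : Q) : Q ⧸ Z), by
        show quotCenterAut σ ((q : Q) : Q ⧸ Z) = ((q : Q) : Q ⧸ Z)
        rw [quotCenterAut_mk, mem_fixSub.1 q.2]⟩
      map_one' := Subtype.ext rfl
      map_mul' := fun a b => Subtype.ext rfl }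
  have hsurj : Function.Surjective π := by
    rintro ⟨x, hx⟩
    induction x using QuotientGroup.induction_on with | _ q => ?_
    rw [mem_fixSub, quotCenterAut_mk, eq_comm, QuotientGroup.eq] at hx
    set z : Z := ⟨q⁻¹ * σ q, hx⟩ with hz
    have hzval : (z : Q) = q⁻¹ * σ q := rfl
    have hσz : σ (z : Q) = (z : Q)⁻¹ := by
      rw [hzval, map_mul, map_inv, h.two]
      group
    have h3 := mul_three (centerAut φ) hZ.three hZ.fpf z
    have h3' : (z : Q) * φ z * φ (φ (z : Q)) = 1 := congrArg Subtype.val h3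
    have hcz : ∀ u, φ (z : Q) * u = u * φ (z : Q) := fun u =>
      (mem_center_iff.1 (centerAut φ z).2 u).symm
    refine ⟨⟨q * (φ (z : Q))⁻¹, ?_⟩, Subtype.ext ?_⟩
    · rw [mem_fixSub, map_mul, map_inv, h.rel, hσz, map_inv, map_inv, inv_inv]
      have e : σ q = q * z := by rw [hzval]; group
      rw [e, mul_assoc]
      congr 1
      refine eq_inv_of_mul_eq_one_left ?_
      rw [mul_assoc, ← hcz, ← mul_assoc]
      exact h3'
    · show ((q * (φ (z : Q))⁻¹ : Q) : Q ⧸ Z) = (q : Q ⧸ Z)
      rw [QuotientGroup.eq]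
      rw [mul_inv_rev, inv_inv, mul_assoc, inv_mul_cancel, mul_one]
      exact (centerAut φ z).2
  let e : fixSub (centerAut σ) ≃ π.ker :=
    { toFun := fun z => ⟨⟨(z : Z), congrArg Subtype.val z.2⟩,
        Subtype.ext ((QuotientGroup.eq_one_iff _).2 (z : Z).2)⟩
      invFun := fun q => ⟨⟨((q : fixSub σ) : Q),
        (QuotientGroup.eq_one_iff _).1 (congrArg Subtype.val q.2)⟩,
        Subtype.ext (q : fixSub σ).2⟩
      left_inv := fun _ => rfl
      right_inv := fun _ => rfl }
  have hcard : Nat.card (fixSub σ) =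
      Nat.card (fixSub (quotCenterAut σ)) * Nat.card (fixSub (centerAut σ)) := by
    rw [Subgroup.card_eq_card_quotient_mul_card_subgroup π.ker, Nat.card_congr e,
      Nat.card_congr (QuotientGroup.quotientKerEquivOfSurjective π hsurj).toEquiv]
  rw [Subgroup.card_eq_card_quotient_mul_card_subgroup Z, hcard, mul_pow]
  exact Nat.mul_le_mul (ih hQ)
    (hZ.card_le_of_comm fun a b => Subtype.ext ((mem_center_iff.1 b.2) a))

theorem SThree.card_eq [Finite Q] [Group.IsNilpotent Q] {φ σ : MulAut Q} (h : SThree φ σ) :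
    Nat.card Q = Nat.card (fixSub σ) ^ 2 :=
  le_antisymm h.card_le h.sq_le_card

end CfsgLib.SelfThree29
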