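import Cfsg.Agent.Lib.SelfThree29.Extension
import Cfsg.Agent.Lib.OddOrder.PuigSeries
import Cfsg.Agent.Lib.Small.Basic

/-!
# Subgroups of order prime to three normalized by `x`

In a simple group with a self-centralizing element `x` of order three, all of whose proper simple
sections with the same property have order 60 or 168, the maximal `x`-invariant `3'`-subgroups are
determined by any of their Sylow subgroups, and those invariant under an inverter of `x` meet
trivially.
-/

set_option autoImplicit false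

namespace CfsgLib.SelfThree29

open Subgroup
open scoped Pointwise

universe u

/-- A subgroup of order prime to three normalized by `x`. -/
structure XInv {G : Type u} [Group G] (x : G) (Q : Subgroup G) : Prop where
  conj : ∀ q ∈ Q, x * q * x⁻¹ ∈ Q
  not_dvd : ¬ 3 ∣ Nat.card Q

/-- The conclusion for a simple group. -/
def Good (H : Type u) [Group H] : Prop :=
  (Nat.card H = 60 ∨ Nat.card H = 168) ∧
    ∃ a b : H, orderOf a = 3 ∧ orderOf b = 3 ∧ orderOf (a * b) = 2

/-- The induction hypothesis below the order of `G`. -/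
def SmallerGood (G : Type u) : Prop :=
  ∀ (H : Type u) [Group H] [Finite H], IsSimpleGroup H → Nat.card H < Nat.card G →
    ∀ y : H, SC3 y → 6 < Nat.card H → Good H

section
variable {G : Type u} [Group G] [Finite G]

theorem XInv.mem_normalizer {x : G} {Q : Subgroup G} (h : XInv x Q) :
    x ∈ normalizer (Q : Set G) :=
  mem_normalizer_fintype h.conj

theorem XInv.conj_inv {x : G} {Q : Subgroup G} (h : XInv x Q) {q : G} (hq : q ∈ Q) :
    x⁻¹ * q * x ∈ Q := by
  have := (Subgroup.mem_normalizer_iff.1 (inv_mem h.mem_normalizer) q).1 hq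
  simpa using this

theorem XInv.isNilpotent {x : G} (hx : SC3 x) {Q : Subgroup G} (h : XInv x Q) :
    Group.IsNilpotent Q :=
  hx.isNilpotent h.mem_normalizer h.not_dvd

theorem xinv_bot (x : G) : XInv x (⊥ : Subgroup G) :=
  ⟨fun q hq => by rw [mem_bot.1 hq]; simp, by simp⟩

theorem card_sup_of_normalizes {K M : Subgroup G} (hK : K ≤ normalizer (M : Set G)) :
    Nat.card (K ⊔ M : Subgroup G) = Nat.card M * M.relIndex K := by
  set N := normalizer (M : Set G)
  have hM : M ≤ N := le_normalizer
  have h1 : M.relIndex (K ⊔ M) = M.relIndex K := by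
    rw [← relIndex_subgroupOf (sup_le hK hM), ← relIndex_subgroupOf hK (H := M),
      Subgroup.subgroupOf_sup hK hM, relIndex_sup_right]
  rw [← h1, ← relIndex_bot_left (H := K ⊔ M), ← relIndex_bot_left (H := M),
    relIndex_mul_relIndex ⊥ M _ bot_le le_sup_right]

theorem XInv.sup {x : G} {K M : Subgroup G} (hK : XInv x K) (hM : XInv x M)
    (hKM : K ≤ normalizer (M : Set G)) : XInv x (K ⊔ M) := by
  refine ⟨fun q hq => ?_, ?_⟩
  · have : (K ⊔ M).map (MulAut.conj x).toMonoidHom ≤ K ⊔ M := by
      rw [Subgroup.map_sup]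
      apply sup_le_sup
      · rintro _ ⟨k, hk, rfl⟩; exact hK.conj k hk
      · rintro _ ⟨m, hm, rfl⟩; exact hM.conj m hm
    exact this (mem_map_of_mem _ hq)
  · rw [card_sup_of_normalizes hKM, Nat.prime_three.dvd_mul, not_or]
    exact ⟨hM.not_dvd, fun h => hK.not_dvd (h.trans (relIndex_dvd_card M K))⟩

/-- The order of an invariant `3'`-subgroup is `1` modulo three. -/
theorem XInv.card_mod {x : G} (hx : SC3 x) {Q : Subgroup G} (h : XInv x Q) :
    Nat.card Q % 3 = 1 := by
  classical
  have : Fact (Nat.Prime 3) := ⟨Nat.prime_three⟩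
  have : Fintype Q := Fintype.ofFinite Q
  let f : Function.End Q := fun q => ⟨x * (q : G) * x⁻¹, h.conj q q.2⟩
  have hf : f ^ 3 ^ 1 = 1 := by
    funext q
    exact Subtype.ext (hx.conj_three (q : G))
  have hfix := Equiv.Perm.card_fixedPoints_modEq hf
  have h1 : Fintype.card f.fixedPoints = 1 := by
    rw [Fintype.card_eq_one_iff]
    refine ⟨⟨1, Subtype.ext (by simp [f])⟩, fun q => Subtype.ext (Subtype.ext ?_)⟩
    have hq : x * ((q : Q) : G) * x⁻¹ = ((q : Q) : G) := congrArg Subtype.val q.2
    exact hx.eq_one_of_commute h.not_dvd (q : Q).2 (mul_inv_eq_iff_eq_mul.1 hq).symm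
  rw [h1, ← Nat.card_eq_fintype_card] at hfix
  exact hfix

theorem xinv_of_normal {x : G} {L N : Subgroup G} (hxL : x ∈ L)
    (hn : ∀ g ∈ L, ∀ n ∈ N, g * n * g⁻¹ ∈ N) (h3 : ¬ 3 ∣ Nat.card N) : XInv x N :=
  ⟨fun q hq => hn x hxL q hq, h3⟩

/-- The structure of a subgroup containing `x`. -/
structure Local (x : G) (L M : Subgroup G) : Prop where
  le : M ≤ L
  conj : ∀ g ∈ L, ∀ m ∈ M, g * m * g⁻¹ ∈ M
  not_dvd : ¬ 3 ∣ Nat.card M
  max : ∀ N : Subgroup G, N ≤ L → (∀ g ∈ L, ∀ n ∈ N, g * n * g⁻¹ ∈ N) → ¬ 3 ∣ Nat.card N → N ≤ M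
  cases : (∀ g ∈ L, ∃ m ∈ M, (m⁻¹ * g) * x * (m⁻¹ * g)⁻¹ ∈ zpowers x) ∨
    (M ≠ ⊥ → IsPGroup 2 M ∧ (∃ V, XInv x V ∧ V ≤ L ∧ M < V) ∧
      ∀ K, XInv x K → K ≤ L → M ≤ K → (Odd (M.relIndex K) → K = M) ∧
        ∀ u ∈ L, u * x * u⁻¹ = x⁻¹ → (∀ k ∈ K, u * k * u⁻¹ ∈ K) → K = M)

theorem Local.xinv {x : G} {L M : Subgroup G} (h : Local x L M) (hxL : x ∈ L) : XInv x M :=
  xinv_of_normal hxL h.conj h.not_dvd

theorem Local.le_normalizer {x : G} {L M : Subgroup G} (h : Local x L M) :
    L ≤ normalizer (M : Set G) := fun g hg => mem_normalizer_fintype (h.conj g hg)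

end

/-- A four-subgroup normalized by an element of order three in a group with a pair as in `Good`. -/
theorem exists_four {H : Type u} [Group H] [Finite H] {X : H} (hX : SC3 X) {a b : H}
    (ha : orderOf a = 3) (hb : orderOf b = 3) (hab : orderOf (a * b) = 2) :
    ∃ V : Subgroup H, XInv X V ∧ V ≠ ⊥ := by
  classical
  set i := a * b with hi
  set j := b * a with hj
  have hii : i * i = 1 := by rw [← sq, ← hab, pow_orderOf_eq_one]
  have ha3 : a * (a * a) = 1 := by
    rw [← pow_three, ← ha, pow_orderOf_eq_one]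
  have hb3 : b * (b * b) = 1 := by
    rw [← pow_three, ← hb, pow_orderOf_eq_one]
  have hja : a⁻¹ * i * a = j := by rw [hi, hj]; group
  have haba : a * b * a = b * b := by
    calc a * b * a = a * b * a * (b * (b * b)) := by rw [hb3, mul_one]
      _ = a * b * (a * b) * (b * b) := by simp only [mul_assoc]
      _ = b * b := by rw [show a * b * (a * b) = 1 from hii, one_mul]
  have hbab : b * a * b = a * a := by
    calc b * a * b = a * (a * a) * (b * a * b) := by rw [ha3, one_mul]
      _ = a * a * (a * b * (a * b)) := by simp only [mul_assoc]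
      _ = a * a := by rw [show a * b * (a * b) = 1 from hii, mul_one]
  -- the product of the two involutions
  have hij : i * j = j * i := by
    have e1 : i * j = a * a * b * (a * a) := by
      calc i * j = a * (b * b) * a := by simp only [hi, hj, mul_assoc]
        _ = a * (a * b * a) * a := by rw [haba]
        _ = _ := by simp only [mul_assoc]
    have e2 : j * i = a * a * b * (a * a) := by
      calc j * i = b * (a * a) * b := by simp only [hi, hj, mul_assoc]
        _ = b * (b * a * b) * b := by rw [hbab]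
        _ = b * b * a * (b * b) := by simp only [mul_assoc]
        _ = (a * b * a) * a * (a * b * a) := by rw [haba]
        _ = a * b * (a * a * a) * b * a := by simp only [mul_assoc]
        _ = a * (b * b) * a := by
            rw [show a * a * a = 1 by rw [mul_assoc]; exact ha3, mul_one]; simp only [mul_assoc]
        _ = a * (a * b * a) * a := by rw [haba]
        _ = _ := by simp only [mul_assoc]
    rw [e1, e2]
  have hjj : j * j = 1 := by
    rw [← hja]
    calc a⁻¹ * i * a * (a⁻¹ * i * a) = a⁻¹ * (i * i) * a := by group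
      _ = 1 := by rw [hii]; group
  let r := i * j
  have hr : r = i * j := rfl
  have hmem : ∀ w, w ∈ ({1, i, j, r} : Set H) → a * w * a⁻¹ ∈ ({1, i, j, r} : Set H) := by
    intro w hw
    simp only [Set.mem_insert_iff, Set.mem_singleton_iff] at hw ⊢
    have h1 : a * j * a⁻¹ = i := by rw [hj, hi]; group
    have h2 : a * i * a⁻¹ = r := by
      rw [hr]
      have hai : a⁻¹ = a * a := inv_eq_of_mul_eq_one_right ha3
      calc a * i * a⁻¹ = a * a * b * (a * a) := by rw [hai, hi]; simp only [mul_assoc]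
        _ = a * (a * b * a) * a := by simp only [mul_assoc]
        _ = a * (b * b) * a := by rw [haba]
        _ = i * j := by simp only [hi, hj, mul_assoc]
    have h3 : a * r * a⁻¹ = j := by
      calc a * r * a⁻¹ = (a * i * a⁻¹) * (a * j * a⁻¹) := by rw [hr]; group
        _ = i * j * i := by rw [h1, h2]
        _ = j * (i * i) := by rw [hij, mul_assoc]
        _ = j := by rw [hii, mul_one]
    rcases hw with rfl | rfl | rfl | rfl
    · left; group
    · right; right; right; exact h2
    · right; left; exact h1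
    · right; right; left; exact h3
  let V0 : Subgroup H :=
    { carrier := {1, i, j, r}
      one_mem' := Set.mem_insert _ _
      mul_mem' := by
        intro w w' hw hw'
        simp only [Set.mem_insert_iff, Set.mem_singleton_iff] at hw hw' ⊢
        have k1 : i * r = j := by rw [hr, ← mul_assoc, hii, one_mul]
        have k2 : r * i = j := by rw [hr, hij, mul_assoc, hii, mul_one]
        have k3 : j * r = i := by rw [hr, hij, ← mul_assoc, hjj, one_mul]
        have k4 : r * j = i := by rw [hr, mul_assoc, hjj, mul_one]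
        have k5 : r * r = 1 := by nth_rewrite 2 [hr]; rw [← mul_assoc, k2, hjj]
        have k6 : j * i = r := hij.symm
        have k7 : i * j = r := rfl
        rcases hw with rfl | rfl | rfl | rfl <;> rcases hw' with rfl | rfl | rfl | rfl <;>
          simp [hii, hjj, k1, k2, k3, k4, k5, k6, k7]
      inv_mem' := by
        intro w hw
        simp only [Set.mem_insert_iff, Set.mem_singleton_iff] at hw ⊢
        rcases hw with rfl | rfl | rfl | rfl
        · left; exact inv_one
        · right; left; exact inv_eq_of_mul_eq_one_right hii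
        · right; right; left; exact inv_eq_of_mul_eq_one_right hjj
        · right; right; right
          rw [hr, mul_inv_rev, inv_eq_of_mul_eq_one_right hii, inv_eq_of_mul_eq_one_right hjj, hij] }
  have hV3 : ¬ 3 ∣ Nat.card V0 := by
    intro h
    have : Fact (Nat.Prime 3) := ⟨Nat.prime_three⟩
    obtain ⟨⟨w, hw⟩, hwo⟩ := exists_prime_orderOf_dvd_card' 3 h
    rw [orderOf_mk] at hwo
    have hw2 : w * w = 1 := by
      rcases hw with rfl | rfl | rfl | rfl
      · exact mul_one 1
      · exact hii
      · exact hjj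
      · rw [hr]; nth_rewrite 2 [hij]
        calc i * j * (j * i) = i * (j * j) * i := by simp only [mul_assoc]
          _ = 1 := by rw [hjj, mul_one, hii]
    have := orderOf_dvd_of_pow_eq_one (show w ^ 2 = 1 by rw [sq]; exact hw2)
    rw [hwo] at this
    norm_num at this
  have hV0 : XInv a V0 := ⟨fun w hw => hmem w hw, hV3⟩
  obtain ⟨g, hg⟩ := hX.exists_conj ha
  refine ⟨V0.map (MulAut.conj g⁻¹).toMonoidHom, ⟨?_, ?_⟩, ?_⟩
  · rintro _ ⟨w, hw, rfl⟩
    rcases hg with hg | hg
    · refine ⟨a * w * a⁻¹, hmem w hw, ?_⟩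
      simp only [MulEquiv.coe_toMonoidHom, MulAut.conj_apply, inv_inv]
      rw [← hg]; group
    · refine ⟨a⁻¹ * w * a, hV0.conj_inv hw, ?_⟩
      simp only [MulEquiv.coe_toMonoidHom, MulAut.conj_apply, inv_inv]
      rw [← hg]; group
  · rw [card_map_of_injective (MulAut.conj g⁻¹).injective]
    exact hV3
  · rw [Ne, map_eq_bot_iff_of_injective _ (MulAut.conj g⁻¹).injective, eq_bot_iff_forall]
    intro h
    have : i = 1 := h i (by
      show i ∈ ({1, i, j, r} : Set H)
      simp)
    rw [this, orderOf_one] at hab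
    omega

/-- In a simple group of order sixty. -/
theorem xinv_sixty {H : Type u} [Group H] [Finite H] [IsSimpleGroup H] (hH : Nat.card H = 60)
    {X : H} (hX : SC3 X) {K : Subgroup H} (hK : XInv X K) :
    (Odd (Nat.card K) → K = ⊥) ∧
      ∀ u : H, u * X * u⁻¹ = X⁻¹ → (∀ k ∈ K, u * k * u⁻¹ ∈ K) → K = ⊥ := by
  classical
  have hdvd : Nat.card K ∣ 20 := by
    have h60 := Subgroup.card_subgroup_dvd_card K
    rw [hH, show (60 : ℕ) = 20 * 3 by norm_num] at h60
    exact (Nat.Coprime.dvd_of_dvd_mul_right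
      ((Nat.prime_three.coprime_iff_not_dvd.2 hK.not_dvd).symm) h60)
  have hmod := hK.card_mod hX
  have hle : Nat.card K ≤ 20 := Nat.le_of_dvd (by norm_num) hdvd
  have hcase : Nat.card K = 1 ∨ Nat.card K = 4 ∨ Nat.card K = 10 := by
    generalize Nat.card K = n at *
    interval_cases n <;> simp_all <;> omega
  refine ⟨fun hodd => ?_, fun u hu hKu => ?_⟩
  · rcases hcase with h | h | h
    · exact eq_bot_of_card_eq K h
    all_goals (rw [h] at hodd; exact absurd hodd (by decide))
  · by_contra hne
    set J := normalizer (K : Set H)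
    have hxJ : X ∈ J := hK.mem_normalizer
    have huJ : u ∈ J := mem_normalizer_fintype hKu
    have hJ : J ≠ ⊤ := by
      intro hJ
      rcases (normalizer_eq_top_iff.1 hJ).eq_bot_or_eq_top with h | h
      · exact hne h
      · exact hX.not_mem hK.not_dvd (h ▸ mem_top X)
    let f : K × Bool × zpowers X → J := fun p =>
      ⟨(p.1 : H) * (cond p.2.1 u 1 * (p.2.2 : H)),
        mul_mem (le_normalizer p.1.2) (mul_mem (by cases p.2.1 <;> simp [huJ])
          ((zpowers_le.2 hxJ) p.2.2.2))⟩
    have hf : Function.Injective f := by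
      rintro ⟨⟨k, hk⟩, b, ⟨z, hz⟩⟩ ⟨⟨k', hk'⟩, b', ⟨z', hz'⟩⟩ e
      have e' : k * (cond b u 1 * z) = k' * (cond b' u 1 * z') := congrArg Subtype.val e
      have hd : cond b u 1 * z * (cond b' u 1 * z')⁻¹ ∈ K := by
        have : cond b u 1 * z * (cond b' u 1 * z')⁻¹ = k⁻¹ * k' := by
          rw [mul_inv_eq_iff_eq_mul, mul_assoc, ← e']; group
        rw [this]; exact mul_mem (inv_mem hk) hk'
      have hone : ∀ w ∈ zpowers X, w ∈ K → w = 1 := by
        intro w hw hwK
        rcases hX.mem_zpowers_cases.1 hw with rfl | rfl | rfl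
        · rfl
        · exact absurd hwK (hX.not_mem hK.not_dvd)
        · exact absurd (inv_mem_iff.1 hwK) (hX.not_mem hK.not_dvd)
      have hu2 : u⁻¹ = u := inv_eq_of_mul_eq_one_right (hX.inverter_mul_self hu)
      have huz : ∀ w ∈ zpowers X, u * w ∉ K := fun w hw =>
        hX.inverter_not_mem hK.not_dvd hK.mem_normalizer (SC3.inverter_mul_mem hu hw)
      cases b <;> cases b' <;> simp only [cond_true, cond_false, one_mul] at hd e'
      · obtain rfl := eq_of_mul_inv_eq_one (hone _ (mul_mem hz (inv_mem hz')) hd)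
        obtain rfl := mul_right_cancel e'
        rfl
      · exfalso
        have h := inv_mem hd
        rw [mul_inv_rev, inv_inv, mul_assoc] at h
        exact huz _ (mul_mem hz' (inv_mem hz)) h
      · exfalso
        rw [mul_assoc] at hd
        exact huz _ (mul_mem hz (inv_mem hz')) hd
      · have hd' : u * (z * z'⁻¹) * u⁻¹ ∈ K := by
          convert hd using 1; group
        have h2 := hKu _ hd'
        have : u * (u * (z * z'⁻¹) * u⁻¹) * u⁻¹ = z * z'⁻¹ := by
          calc u * (u * (z * z'⁻¹) * u⁻¹) * u⁻¹ = (u * u) * (z * z'⁻¹) * (u * u)⁻¹ := by group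
            _ = _ := by rw [hX.inverter_mul_self hu]; group
        rw [this] at h2
        obtain rfl := eq_of_mul_inv_eq_one (hone _ (mul_mem hz (inv_mem hz')) h2)
        obtain rfl := mul_right_cancel e'
        rfl
    have hge : Nat.card K * 6 ≤ Nat.card J := by
      refine le_trans (le_of_eq ?_) (Nat.card_le_card_of_injective f hf)
      simp [Nat.card_prod, hX.card_zpowers]
    have hJd := Subgroup.card_subgroup_dvd_card J
    rw [hH] at hJd
    have hKJ : Nat.card K ∣ Nat.card J := card_dvd_of_le le_normalizer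
    have h6J : 3 ∣ Nat.card J :=
      hX.ord ▸ orderOf_mk X hxJ ▸ orderOf_dvd_natCard (⟨X, hxJ⟩ : J)
    have hlt : Nat.card J ≠ 60 := fun h => hJ (eq_top_of_card_eq J (by rw [h, hH]))
    have hle60 : Nat.card J ≤ 60 := Nat.le_of_dvd (by norm_num) hJd
    rcases hcase with h | h | h
    · exact hne (eq_bot_of_card_eq K h)
    · rw [h] at hge hKJ
      have h12 : 12 ∣ Nat.card J := Nat.Coprime.mul_dvd_of_dvd_of_dvd (m := 4) (n := 3)
        (by norm_num) hKJ h6J
      generalize Nat.card J = n at *
      interval_cases n <;> simp_all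
    · rw [h] at hge
      omega

/-- A normal `3'`-subgroup with quotient simple of order 168 is trivial. -/
theorem SC3.core_eq_bot_of_168 {G : Type u} [Group G] [Finite G] {x : G} (hx : SC3 x)
    (N : Subgroup G) [N.Normal] (hN3 : ¬ 3 ∣ Nat.card N) [IsSimpleGroup (G ⧸ N)]
    (h168 : Nat.card (G ⧸ N) = 168) {a b : G ⧸ N} (ha : orderOf a = 3) (hb : orderOf b = 3)
    (hab : orderOf (a * b) = 2) : N = ⊥ := by
  have hQ : SC3 (x : G ⧸ N) := hx.quotient N hN3
  have : Fact (Nat.Prime 7) := ⟨by norm_num⟩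
  obtain ⟨P⟩ := (inferInstance : Nonempty (Sylow 7 (G ⧸ N)))
  have hP7 : Nat.card P = 7 := by
    simpa using CfsgLib.Small.card_sylow_of_card_eq (p := 7) (k := 1) (m := 24)
      (by rw [h168]; norm_num) (by norm_num) P
  have hnc := CfsgLib.Small.nc_of_not_prime (G := G ⧸ N) (by rw [h168]; norm_num)
  have hn8 := CfsgLib.Small.card_sylow_mem (p := 7) hnc (k := 1) (m := 24) one_ne_zero
    (by rw [h168]; norm_num) (by norm_num)
  rw [show ((Nat.divisors 24).filter fun n => n % 7 = 1 ∧ 1 < n) = {8} from by decide,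
    Finset.mem_singleton] at hn8
  have hnor : Nat.card (normalizer ((P : Subgroup (G ⧸ N)) : Set (G ⧸ N))) = 21 := by
    have := card_mul_index (normalizer ((P : Subgroup (G ⧸ N)) : Set (G ⧸ N)))
    have h8 : 8 = (normalizer ((P : Subgroup (G ⧸ N)) : Set (G ⧸ N))).index := by
      rw [← hn8]; exact P.card_eq_index_normalizer
    rw [h168] at this
    rw [← h8] at this
    omega
  have : Fact (Nat.Prime 3) := ⟨Nat.prime_three⟩
  obtain ⟨⟨w, hw⟩, hwo⟩ := exists_prime_orderOf_dvd_card'
    (G := normalizer ((P : Subgroup (G ⧸ N)) : Set (G ⧸ N))) 3 (by rw [hnor]; norm_num)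
  rw [orderOf_mk] at hwo
  obtain ⟨g, hg⟩ := hQ.exists_conj hwo
  set P' := (P : Subgroup (G ⧸ N)).map (MulAut.conj g⁻¹).toMonoidHom
  have hP' : Nat.card P' = 7 := by
    rw [card_map_of_injective (MulAut.conj g⁻¹).injective]; exact hP7
  have hcyc : IsCyclic P' := isCyclic_of_prime_card hP'
  refine hx.ext_trivial N hN3 ha hb hab P' ?_ (fun p q => ?_) ?_ ?_ ?_
  · rw [← one_lt_card_iff_ne_bot, hP']; norm_num
  · exact (IsCyclic.commGroup (α := P')).mul_comm p q
  · rw [hP']; decide
  · rw [hP']; decide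
  · rintro _ ⟨q, hq, rfl⟩
    rcases hg with hg | hg
    · refine ⟨w * q * w⁻¹, (Subgroup.mem_normalizer_iff.1 hw q).1 hq, ?_⟩
      simp only [MulEquiv.coe_toMonoidHom, MulAut.conj_apply, inv_inv]
      rw [← hg]; group
    · refine ⟨w⁻¹ * q * w⁻¹⁻¹, (Subgroup.mem_normalizer_iff.1 (inv_mem hw) q).1 hq, ?_⟩
      simp only [MulEquiv.coe_toMonoidHom, MulAut.conj_apply, inv_inv]
      rw [← hg]; group

/-- Every subgroup containing `x` but proper has a `Local` structure. -/
theorem exists_local {G : Type u} [Group G] [Finite G] {x : G} (hx : SC3 x)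
    (ih : SmallerGood G) {L : Subgroup G} (hxL : x ∈ L) (hL : L ≠ ⊤) : ∃ M, Local x L M := by
  classical
  set y : L := ⟨x, hxL⟩
  have hy : SC3 y := hx.subgroup hxL
  obtain ⟨N, hN, hN3, hred⟩ := exists_core y
  have hQ : SC3 (y : L ⧸ N) := hy.quotient N hN3
  set M := N.map L.subtype with hMdef
  have hMcard : Nat.card M = Nat.card N := card_map_of_injective L.subtype_injective
  have hMconj : ∀ g ∈ L, ∀ m ∈ M, g * m * g⁻¹ ∈ M := by
    rintro g hg _ ⟨m, hm, rfl⟩
    exact ⟨⟨g, hg⟩ * m * ⟨g, hg⟩⁻¹, hN.conj_mem m hm _, rfl⟩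
  refine ⟨M, map_subtype_le _, hMconj, by rwa [hMcard], ?_, ?_⟩
  · intro K hKL hKn hK3
    have : (K.subgroupOf L).Normal := ⟨fun k hk g => hKn g g.2 k hk⟩
    have h : (K.subgroupOf L).map (QuotientGroup.mk' N) = ⊥ := by
      refine hred _ (this.map _ (QuotientGroup.mk'_surjective N)) fun h => hK3 ?_
      exact h.trans ((card_map_dvd _ _).trans (dvd_of_eq
        (Nat.card_congr (subgroupOfEquivOfLe hKL).toEquiv)))
    intro k hk
    rw [Subgroup.map_eq_bot_iff, QuotientGroup.ker_mk'] at h
    exact ⟨⟨k, hKL hk⟩, h (show (⟨k, hKL hk⟩ : L) ∈ K.subgroupOf L from hk), rfl⟩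
  · rcases hQ.reduced_cases hred with h | ⟨h, s, hs⟩ | ⟨hsimp, hbig, -⟩
    all_goals try
      left
      intro g hg
      have hn : (zpowers (y : L ⧸ N)).Normal := by
        have hi : (zpowers (y : L ⧸ N)).index ≤ 2 := by
          have := card_mul_index (zpowers (y : L ⧸ N))
          rw [hQ.card_zpowers, h] at this
          omega
        rcases Nat.lt_or_ge (zpowers (y : L ⧸ N)).index 2 with h1 | h1
        · have h0 := (zpowers (y : L ⧸ N)).index_ne_zero_of_finite
          rw [index_eq_one.1 (show (zpowers (y : L ⧸ N)).index = 1 by omega)]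
          infer_instance
        · exact normal_of_index_eq_two (by omega)
      have hmem := hn.conj_mem _ (mem_zpowers _) ((⟨g, hg⟩ : L) : L ⧸ N)
      obtain ⟨k, hk⟩ := hmem
      have hz : (y ^ k)⁻¹ * (⟨g, hg⟩ * y * (⟨g, hg⟩ : L)⁻¹) ∈ N := by
        rw [← QuotientGroup.eq, QuotientGroup.mk_zpow, QuotientGroup.mk_mul,
          QuotientGroup.mk_mul, QuotientGroup.mk_inv]
        exact hk
      have hord : orderOf (y ^ k) = 3 := by
        have hdvd : orderOf (y ^ k) ∣ 3 := orderOf_dvd_of_pow_eq_one (by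
          rw [← zpow_natCast, ← zpow_mul, mul_comm, zpow_mul, zpow_natCast, hy.cube, one_zpow])
        rcases (Nat.dvd_prime Nat.prime_three).1 hdvd with h1 | h1
        · exfalso
          rw [orderOf_eq_one_iff.1 h1, inv_one, one_mul] at hz
          exact (hy.map_conj ⟨g, hg⟩).not_mem hN3 hz
        · exact h1
      obtain ⟨m, hm, he⟩ := (hy.of_orderOf hord).exists_conj_eq N hN3 hz
      refine ⟨m, mem_map_of_mem L.subtype hm, ?_⟩
      have he' : (m : G) * x ^ k * (m : G)⁻¹ = g * x * g⁻¹ := by
        simpa [y] using congrArg Subtype.val he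
      rw [show ((m : G)⁻¹ * g) * x * ((m : G)⁻¹ * g)⁻¹ = (m : G)⁻¹ * (g * x * g⁻¹) * m by group,
        ← he', show (m : G)⁻¹ * ((m : G) * x ^ k * (m : G)⁻¹) * m = x ^ k by group]
      exact zpow_mem (mem_zpowers x) k
    right
    intro hMne
    have hlt : Nat.card (L ⧸ N) < Nat.card G := by
      refine lt_of_le_of_lt (Nat.le_of_dvd Nat.card_pos (card_quotient_dvd_card N)) ?_
      refine lt_of_le_of_ne (Nat.le_of_dvd Nat.card_pos (card_subgroup_dvd_card L)) fun e => hL ?_
      exact eq_top_of_card_eq L e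
    obtain ⟨hcard, a, b, ha, hb, hab⟩ := ih _ hsimp hlt _ hQ hbig
    have hNne : N ≠ ⊥ := fun e => hMne (by rw [hMdef, e, Subgroup.map_bot])
    obtain ⟨-, hsq⟩ := hy.ext_elementary N hN3 ha hb hab
    have h60 : Nat.card (L ⧸ N) = 60 := by
      exact hcard.resolve_right fun h168 => hNne (hy.core_eq_bot_of_168 N hN3 h168 ha hb hab)
    refine ⟨?_, ?_, ?_⟩
    · rintro ⟨_, m, hm, rfl⟩
      refine ⟨1, Subtype.ext ?_⟩
      rw [pow_one]
      simpa using congrArg (L.subtype) (hsq m hm)
    · obtain ⟨V, hV, hVne⟩ := exists_four hQ ha hb hab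
      set V' := (V.comap (QuotientGroup.mk' N)).map L.subtype
      have hNV : N ≤ V.comap (QuotientGroup.mk' N) := fun n hn => by
        show (n : L ⧸ N) ∈ V
        rw [(QuotientGroup.eq_one_iff n).2 hn]; exact one_mem V
      have hcardV : Nat.card V' = Nat.card N * Nat.card V := by
        rw [card_map_of_injective L.subtype_injective, ← relIndex_bot_left (H := N),
          ← relIndex_bot_left (H := V.comap (QuotientGroup.mk' N)),
          ← relIndex_mul_relIndex ⊥ N _ bot_le hNV]
        congr 1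
        have hk : N = (⊥ : Subgroup (L ⧸ N)).comap (QuotientGroup.mk' N) := by
          rw [MonoidHom.comap_bot, QuotientGroup.ker_mk']
        conv_lhs => arg 1; rw [hk]
        rw [relIndex_comap, map_comap_eq_self_of_surjective (QuotientGroup.mk'_surjective N),
          relIndex_bot_left]
      refine ⟨V', ⟨?_, ?_⟩, map_subtype_le _, lt_of_le_of_ne (map_mono hNV) fun e => hVne ?_⟩
      · rintro _ ⟨v, hv, rfl⟩
        refine ⟨y * v * y⁻¹, ?_, rfl⟩
        show ((y * v * y⁻¹ : L) : L ⧸ N) ∈ V
        rw [QuotientGroup.mk_mul, QuotientGroup.mk_mul, QuotientGroup.mk_inv]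
        exact hV.conj _ hv
      · rw [hcardV, Nat.prime_three.dvd_mul, not_or]
        exact ⟨hN3, hV.not_dvd⟩
      · refine eq_bot_of_card_eq V ?_
        have := congrArg (fun S : Subgroup G => Nat.card S) e
        simp only [hMcard, hcardV] at this
        exact Nat.eq_of_mul_eq_mul_left Nat.card_pos (by rw [mul_one]; exact this.symm)
    · intro K hK hKL hMK
      set Kb := (K.subgroupOf L).map (QuotientGroup.mk' N)
      have hKb : XInv (y : L ⧸ N) Kb := by
        refine ⟨?_, fun h => hK.not_dvd (h.trans ((card_map_dvd _ _).trans (dvd_of_eq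
          (Nat.card_congr (subgroupOfEquivOfLe hKL).toEquiv))))⟩
        rintro _ ⟨k, hk, rfl⟩
        exact ⟨y * k * y⁻¹, hK.conj k hk, rfl⟩
      have hcardKb : M.relIndex K = Nat.card Kb := by
        have hNK : N ≤ K.subgroupOf L := fun n hn => hMK (mem_map_of_mem L.subtype hn)
        rw [← relIndex_subgroupOf hKL, show M.subgroupOf L = N from
          comap_map_eq_self_of_injective L.subtype_injective N,
          ← relIndex_bot_left (H := Kb), ← QuotientGroup.map_mk'_self N, relIndex_map_map,
          QuotientGroup.ker_mk', sup_idem, sup_eq_left.2 hNK]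
      have hKM : Kb = ⊥ → K = M := fun e => by
        refine le_antisymm (fun k hk => ?_) hMK
        rw [Subgroup.map_eq_bot_iff, QuotientGroup.ker_mk'] at e
        exact ⟨⟨k, hKL hk⟩, e (show (⟨k, hKL hk⟩ : L) ∈ K.subgroupOf L from hk), rfl⟩
      refine ⟨fun hodd => hKM ((xinv_sixty h60 hQ hKb).1 (hcardKb ▸ hodd)), fun u hu hux hKu =>
        hKM ((xinv_sixty h60 hQ hKb).2 ((⟨u, hu⟩ : L) : L ⧸ N) ?_ ?_)⟩
      · rw [← QuotientGroup.mk_inv, ← QuotientGroup.mk_inv, ← QuotientGroup.mk_mul,
          ← QuotientGroup.mk_mul]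
        exact congrArg _ (Subtype.ext hux)
      · rintro _ ⟨k, hk, rfl⟩
        exact ⟨⟨u, hu⟩ * k * ⟨u, hu⟩⁻¹, hKu k hk, rfl⟩

end CfsgLib.SelfThree29
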