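import Cfsg.Agent.Lib.SelfThree29.Local

/-!
# Maximal invariant `3'`-subgroups

Sylow subgroups of maximal `x`-invariant `3'`-subgroups, their conjugacy, and the trivial
intersection property of those invariant under an inverter.
-/

set_option autoImplicit false

namespace CfsgLib.SelfThree29

open Subgroup
open scoped Pointwise

universe u

variable {G : Type u} [Group G] [Finite G]

/-- A maximal `x`-invariant subgroup of order prime to three. -/
def MaxX (x : G) (Q : Subgroup G) : Prop := Maximal (XInv x) Q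

/-- A subgroup of order prime to three normalized by `x` and `s`. -/
def SInv (x s : G) (Q : Subgroup G) : Prop := XInv x Q ∧ ∀ q ∈ Q, s * q * s⁻¹ ∈ Q

/-- The Sylow `p`-part of an invariant subgroup. -/
theorem exists_part {x : G} (hx : SC3 x) {Q : Subgroup G} (hQ : XInv x Q) (p : ℕ)
    [hp : Fact p.Prime] :
    ∃ S : Subgroup G, S ≤ Q ∧ IsPGroup p S ∧ (∀ q ∈ Q, IsPGroup p (zpowers q) → q ∈ S) ∧
      (∀ g : G, (∀ q ∈ Q, g * q * g⁻¹ ∈ Q) → ∀ t ∈ S, g * t * g⁻¹ ∈ S) ∧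
      ¬ p ∣ S.relIndex Q ∧ (p ∣ Nat.card Q → S ≠ ⊥) := by
  have hnil := hQ.isNilpotent hx
  obtain ⟨P⟩ := (inferInstance : Nonempty (Sylow p Q))
  have hPn : (P : Subgroup Q).Normal := Sylow.normal_of_normalizerCondition
    Group.normalizerCondition_of_isNilpotent P
  set S := (P : Subgroup Q).map Q.subtype with hS
  have hSp : IsPGroup p S := P.isPGroup'.map Q.subtype
  have hmem : ∀ q ∈ Q, IsPGroup p (zpowers q) → q ∈ S := by
    intro q hq hqp
    have h1 : IsPGroup p (zpowers (⟨q, hq⟩ : Q)) := by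
      refine IsPGroup.of_injective hqp
        ((Q.subtype.comp (zpowers (⟨q, hq⟩ : Q)).subtype).codRestrict (zpowers q) ?_) ?_
      · rintro ⟨_, j, rfl⟩
        exact ⟨j, by simp⟩
      · intro a b e
        exact Subtype.ext (Subtype.ext (congrArg (fun w : zpowers q => (w : G)) e))
    obtain ⟨P', hP'⟩ := h1.exists_le_sylow
    have : Unique (Sylow p Q) := P.unique_of_normal hPn
    exact ⟨⟨q, hq⟩, Subsingleton.elim P' P ▸ hP' (mem_zpowers _), rfl⟩
  refine ⟨S, map_subtype_le _, hSp, hmem, fun g hg t ht => ?_, ?_, fun hd hb => ?_⟩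
  · refine hmem _ (hg t (map_subtype_le _ ht)) ?_
    obtain ⟨k, hk⟩ := hSp ⟨t, ht⟩
    have : t ^ p ^ k = 1 := congrArg Subtype.val hk
    obtain ⟨j, -, hj⟩ := (Nat.dvd_prime_pow hp.out).1
      (orderOf_dvd_of_pow_eq_one (show (g * t * g⁻¹) ^ p ^ k = 1 by rw [conj_pow, this]; group))
    exact IsPGroup.of_card (n := j) (by rw [Nat.card_zpowers, hj])
  · rw [← relIndex_subgroupOf le_rfl, subgroupOf_self, relIndex_top_right,
      show S.subgroupOf Q = (P : Subgroup Q) from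
        comap_map_eq_self_of_injective Q.subtype_injective _]
    exact P.not_dvd_index
  · rw [hS, map_eq_bot_iff_of_injective _ Q.subtype_injective] at hb
    have := P.card_eq_multiplicity
    rw [hb, card_bot] at this
    have hpos := hp.out.factorization_pos_of_dvd Nat.card_pos.ne' hd
    exact absurd this.symm (Nat.one_lt_pow hpos.ne' hp.out.one_lt).ne'

/-- Every invariant subgroup is contained in a maximal one. -/
theorem exists_maxX {x : G} {Q : Subgroup G} (hQ : XInv x Q) : ∃ R, MaxX x R ∧ Q ≤ R := by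
  obtain ⟨R, h1, h2⟩ := Finite.exists_le_maximal (p := XInv x) hQ
  exact ⟨R, h2, h1⟩

theorem MaxX.eq_of_le {x : G} {Q R : Subgroup G} (hQ : MaxX x Q) (hR : XInv x R) (h : Q ≤ R) :
    R = Q :=
  le_antisymm (hQ.2 hR h) h

theorem MaxX.inverter_mul_not_mem {x : G} (hx : SC3 x) {Q : Subgroup G} (hQ : XInv x Q) {n : G}
    (hnQ : n ∈ Q) (hn : n * x * n⁻¹ ∈ zpowers x) : n = 1 := by
  rcases hx.mem_or_inverts hn with h | h
  · rcases hx.mem_zpowers_cases.1 h with h | h | h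
    · exact h
    · exact absurd (h ▸ hnQ) (hx.not_mem hQ.not_dvd)
    · exact absurd (inv_mem_iff.1 (h ▸ hnQ)) (hx.not_mem hQ.not_dvd)
  · exact absurd hnQ (hx.inverter_not_mem hQ.not_dvd hQ.mem_normalizer h)

theorem normalizer_ne_top [IsSimpleGroup G] {x : G} (hx : SC3 x) {S : Subgroup G} (hS : S ≠ ⊥)
    (h3 : ¬ 3 ∣ Nat.card S) : normalizer (S : Set G) ≠ ⊤ := by
  intro h
  rcases (normalizer_eq_top_iff.1 h).eq_bot_or_eq_top with h' | h'
  · exact hS h'
  · exact hx.not_mem h3 (h' ▸ mem_top x)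

variable [IsSimpleGroup G] {x : G} (hx : SC3 x) (ih : SmallerGood G)
include hx ih

/-- The normalizer of a Sylow part of a maximal invariant subgroup normalizes it. -/
theorem MaxX.part_normalizer {Q : Subgroup G} (hQ : MaxX x Q) {p : ℕ} [hp : Fact p.Prime]
    {S : Subgroup G} (hSQ : S ≤ Q) (hSp : IsPGroup p S)
    (hSmax : ∀ q ∈ Q, IsPGroup p (zpowers q) → q ∈ S)
    (hSn : ∀ g : G, (∀ q ∈ Q, g * q * g⁻¹ ∈ Q) → ∀ t ∈ S, g * t * g⁻¹ ∈ S)
    (hSi : ¬ p ∣ S.relIndex Q) (hS : S ≠ ⊥) :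
    ∀ g ∈ normalizer (S : Set G), (∀ q ∈ Q, g * q * g⁻¹ ∈ Q) ∧
      ∃ m ∈ Q, (m⁻¹ * g) * x * (m⁻¹ * g)⁻¹ ∈ zpowers x := by
  have hS3 : ¬ 3 ∣ Nat.card S := fun h => hQ.1.not_dvd (h.trans (card_dvd_of_le hSQ))
  set L := normalizer (S : Set G)
  have hQn : ∀ k ∈ Q, ∀ q ∈ Q, k * q * k⁻¹ ∈ Q := fun k hk q hq =>
    mul_mem (mul_mem hk hq) (inv_mem hk)
  have hxL : x ∈ L := mem_normalizer_fintype (hSn x hQ.1.conj)
  have hQL : Q ≤ L := fun k hk => mem_normalizer_fintype (hSn k (hQn k hk))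
  obtain ⟨M, hM⟩ := exists_local hx ih hxL (normalizer_ne_top hx hS hS3)
  have hSM : S ≤ M := hM.max S le_normalizer
    (fun g hg t ht => (Subgroup.mem_normalizer_iff.1 hg t).1 ht) hS3
  have hMne : M ≠ ⊥ := fun h => hS (le_bot_iff.1 (h ▸ hSM))
  have hMX : XInv x M := hM.xinv hxL
  have hQM : Q ⊔ M = Q := hQ.eq_of_le (hQ.1.sup hMX (hQL.trans hM.le_normalizer)) le_sup_left
  have hMQ : M ≤ Q := hQM ▸ le_sup_right
  rcases hM.cases with hA | hB
  · have hQ' : Q ≤ M := by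
      intro g hg
      obtain ⟨m, hm, hn⟩ := hA g (hQL hg)
      have := MaxX.inverter_mul_not_mem hx hQ.1 (mul_mem (inv_mem (hMQ hm)) hg) hn
      rw [inv_mul_eq_one] at this
      exact this ▸ hm
    obtain rfl : M = Q := le_antisymm hMQ hQ'
    exact fun g hg => ⟨hM.conj g hg, hA g hg⟩
  · exfalso
    obtain ⟨h2, ⟨V, hV, hVL, hMV⟩, hK⟩ := hB hMne
    obtain ⟨t, ht, ht1⟩ := (Subgroup.bot_or_exists_ne_one S).resolve_left hS
    have hp2 : p = 2 := by
      obtain ⟨k, hk⟩ := hSp ⟨t, ht⟩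
      obtain ⟨l, hl⟩ := h2 ⟨t, hSM ht⟩
      have hk' : t ^ p ^ k = 1 := congrArg Subtype.val hk
      have hl' : t ^ 2 ^ l = 1 := congrArg Subtype.val hl
      by_contra hne
      exact ht1 (orderOf_eq_one_iff.1 (Nat.eq_one_of_dvd_coprimes
        (((Nat.coprime_primes hp.out Nat.prime_two).2 hne).pow k l)
        (orderOf_dvd_of_pow_eq_one hk') (orderOf_dvd_of_pow_eq_one hl')))
    subst hp2
    have hMS : M ≤ S := fun m hm => hSmax m (hMQ hm) (h2.to_le (zpowers_le.2 hm))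
    have hodd : Odd (M.relIndex Q) := by
      rw [Nat.odd_iff, ← Nat.two_dvd_ne_zero, le_antisymm hMS hSM]
      exact hSi
    have hQM' : Q = M := (hK Q hQ.1 hQL hMQ).1 hodd
    exact hMV.not_ge (hQM' ▸ hQ.2 hV (hQM' ▸ hMV.le))

/-- The Sylow part is a Sylow subgroup of `G`, except possibly for `p = 2` and `Q` normalized by
an inverter. -/
theorem MaxX.part_sylow {Q : Subgroup G} (hQ : MaxX x Q) {p : ℕ} [hp : Fact p.Prime]
    {S : Subgroup G} (hSQ : S ≤ Q) (hSp : IsPGroup p S)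
    (hSmax : ∀ q ∈ Q, IsPGroup p (zpowers q) → q ∈ S)
    (hSn : ∀ g : G, (∀ q ∈ Q, g * q * g⁻¹ ∈ Q) → ∀ t ∈ S, g * t * g⁻¹ ∈ S)
    (hSi : ¬ p ∣ S.relIndex Q) (hS : S ≠ ⊥) {s : G} (hs : s * x * s⁻¹ = x⁻¹)
    (hp2 : p ≠ 2 ∨ ¬ ∀ q ∈ Q, s * q * s⁻¹ ∈ Q) :
    ∃ P : Sylow p G, (P : Subgroup G) = S := by
  obtain ⟨P, hP⟩ := hSp.exists_le_sylow
  refine ⟨P, le_antisymm ?_ hP⟩
  by_contra hne
  have hnil : Group.IsNilpotent P := P.isPGroup'.isNilpotent
  set S' := S.subgroupOf (P : Subgroup G)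
  have hlt : S' < ⊤ := lt_top_iff_ne_top.2 fun h => hne (subgroupOf_eq_top.1 h)
  obtain ⟨⟨g, hgP⟩, hgn, hgS⟩ :=
    SetLike.exists_of_lt (Group.normalizerCondition_of_isNilpotent S' hlt)
  have hgL : g ∈ normalizer (S : Set G) := mem_normalizer_fintype fun t ht =>
    (Subgroup.mem_normalizer_iff.1 hgn ⟨t, hP ht⟩).1 ht
  obtain ⟨hgQ, m, hm, hn⟩ := hQ.part_normalizer hx ih hSQ hSp hSmax hSn hSi hS g hgL
  have hgp : IsPGroup p (zpowers g) := P.isPGroup'.to_le (zpowers_le.2 hgP)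
  obtain ⟨k, hk⟩ : ∃ k, g ^ p ^ k = 1 := by
    obtain ⟨k, hk⟩ := hgp ⟨g, mem_zpowers g⟩
    exact ⟨k, congrArg Subtype.val hk⟩
  set n := m⁻¹ * g with hndef
  have hg : g = m * n := by rw [hndef]; group
  have hnQ : ∀ q ∈ Q, n * q * n⁻¹ ∈ Q := fun q hq => by
    have := mul_mem (mul_mem (inv_mem hm) (hgQ q hq)) hm
    simpa [hndef, mul_assoc] using this
  have hout : ∀ e : ℕ, (p ^ k).Coprime e → g ^ e ∈ Q → False := by
    intro e he hge
    have : g ∈ Q := by
      have h1 : (g ^ e) ^ (Nat.gcdB (p ^ k) e) = g := by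
        rw [← zpow_natCast, ← zpow_mul]
        have hb := Nat.gcd_eq_gcd_ab (p ^ k) e
        rw [he.gcd_eq_one] at hb
        conv_rhs => rw [← zpow_one g, show (1 : ℤ) = ((p ^ k : ℕ) : ℤ) * Nat.gcdA (p ^ k) e +
          (e : ℤ) * Nat.gcdB (p ^ k) e from hb, zpow_add, zpow_mul g ((p ^ k : ℕ) : ℤ),
          zpow_natCast, hk, one_zpow, one_mul]
      exact h1 ▸ zpow_mem hge _
    exact hgS (hSmax g this hgp)
  rcases hx.mem_or_inverts hn with hz | hz
  · have hn3 : n * n * n = 1 := by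
      obtain ⟨j, hj⟩ := hz
      have hj' : x ^ j = n := hj
      rw [← hj', ← zpow_add, ← zpow_add, show j + j + j = ((3 : ℕ) : ℤ) * j by push_cast; ring,
        zpow_mul, zpow_natCast, hx.cube, one_zpow]
    have hp3 : p ≠ 3 := by
      rintro rfl
      obtain ⟨t, ht, ht1⟩ := (Subgroup.bot_or_exists_ne_one S).resolve_left hS
      obtain ⟨l, hl⟩ := hSp ⟨t, ht⟩
      have hl' : t ^ 3 ^ l = 1 := congrArg Subtype.val hl
      have h1 := orderOf_dvd_of_pow_eq_one hl'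
      have h2 : orderOf t ∣ Nat.card Q :=
        orderOf_mk t (hSQ ht) ▸ orderOf_dvd_natCard (⟨t, hSQ ht⟩ : Q)
      exact ht1 (orderOf_eq_one_iff.1 (Nat.eq_one_of_dvd_coprimes
        ((Nat.prime_three.coprime_iff_not_dvd.2 hQ.1.not_dvd).pow_left l) h1 h2))
    refine hout 3 (((Nat.coprime_primes hp.out Nat.prime_three).2 hp3).pow_left k) ?_
    rw [hg, show (m * n) ^ 3 = m * (n * m * n⁻¹) * (n * (n * m * n⁻¹) * n⁻¹) * (n * n * n) by
      simp [pow_three, mul_assoc], hn3, mul_one]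
    exact mul_mem (mul_mem hm (hnQ m hm)) (hnQ _ (hnQ m hm))
  · rcases hp2 with hp2 | hp2
    · refine hout 2 (((Nat.coprime_primes hp.out Nat.prime_two).2 hp2).pow_left k) ?_
      rw [hg, show (m * n) ^ 2 = m * (n * m * n⁻¹) * (n * n) by simp [sq, mul_assoc],
        hx.inverter_mul_self hz, mul_one]
      exact mul_mem hm (hnQ m hm)
    · apply hp2
      obtain ⟨j, hj, hjs⟩ := hx.inverter_eq hz hs
      intro q hq
      rw [hjs, show n * j * q * (n * j)⁻¹ = n * (j * q * j⁻¹) * n⁻¹ by group]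
      refine hnQ _ ?_
      rcases hx.mem_zpowers_cases.1 hj with rfl | rfl | rfl
      · simpa using hq
      · exact hQ.1.conj q hq
      · simpa using hQ.1.conj_inv hq

/-- Two maximal invariant subgroups with Sylow parts that are Sylow subgroups of `G` for the same
prime are equal or interchanged by the inverter. -/
theorem MaxX.eq_or_eq_conj {Q R : Subgroup G} (hQ : MaxX x Q) (hR : MaxX x R) {p : ℕ}
    [hp : Fact p.Prime] (hpQ : p ∣ Nat.card Q) (hpR : p ∣ Nat.card R) {s : G}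
    (hs : s * x * s⁻¹ = x⁻¹) (hQ2 : p ≠ 2 ∨ ¬ ∀ q ∈ Q, s * q * s⁻¹ ∈ Q)
    (hR2 : p ≠ 2 ∨ ¬ ∀ q ∈ R, s * q * s⁻¹ ∈ R) :
    R = Q ∨ R = Q.map (MulAut.conj s).toMonoidHom := by
  obtain ⟨S, hSQ, hSp, hSmax, hSn, hSi, hS0⟩ := exists_part hx hQ.1 p
  obtain ⟨T, hTR, hTp, hTmax, hTn, hTi, hT0⟩ := exists_part hx hR.1 p
  have hS := hS0 hpQ
  have hT := hT0 hpR
  obtain ⟨P, hP⟩ := hQ.part_sylow hx ih hSQ hSp hSmax hSn hSi hS hs hQ2
  obtain ⟨P', hP'⟩ := hR.part_sylow hx ih hTR hTp hTmax hTn hTi hT hs hR2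
  obtain ⟨g, hg⟩ := MulAction.exists_smul_eq G P P'
  have hgST : ∀ t, t ∈ T ↔ g⁻¹ * t * g ∈ S := by
    intro t
    rw [← hP', ← hg, ← hP, Sylow.coe_subgroup_smul, mem_pointwise_smul_iff_inv_smul_mem]
    simp [MulAut.smul_def]
  have hxT : ∀ t ∈ T, x * t * x⁻¹ ∈ T := hTn x hR.1.conj
  set L := normalizer (S : Set G)
  have hxL : x ∈ L := mem_normalizer_fintype (hSn x hQ.1.conj)
  have hgL : g⁻¹ * x * g ∈ L := mem_normalizer_fintype fun v hv => by
    have h1 : g * v * g⁻¹ ∈ T := (hgST _).2 (by simpa [mul_assoc] using hv)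
    have h2 := (hgST _).1 (hxT _ h1)
    simpa [mul_assoc] using h2
  obtain ⟨⟨h, hh⟩, hconj⟩ := (hx.subgroup hxL).exists_conj (y := ⟨g⁻¹ * x * g, hgL⟩)
    (by
      rw [orderOf_mk]
      nth_rewrite 2 [← inv_inv g]
      rw [orderOf_cj]
      exact hx.ord)
  set n := g * h with hn
  have hnx : n * x * n⁻¹ ∈ zpowers x := by
    rcases hconj with hc | hc
    · have hc' : h * x * h⁻¹ = g⁻¹ * x * g := congrArg Subtype.val hc
      rw [hn, show g * h * x * (g * h)⁻¹ = g * (h * x * h⁻¹) * g⁻¹ by group, hc']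
      simpa [mul_assoc] using mem_zpowers x
    · have hc' : h * x⁻¹ * h⁻¹ = g⁻¹ * x * g := congrArg Subtype.val hc
      rw [hn, show g * h * x * (g * h)⁻¹ = (g * (h * x⁻¹ * h⁻¹) * g⁻¹)⁻¹ by group, hc']
      simpa [mul_assoc] using inv_mem (mem_zpowers x)
  have hnST : ∀ t, t ∈ T ↔ n⁻¹ * t * n ∈ S := by
    intro t
    rw [hgST, Subgroup.mem_normalizer_iff.1 (inv_mem hh) (g⁻¹ * t * g), hn]
    simp [mul_assoc]
  -- the conjugate of one lies in the other
  have key : ∀ (A B : Subgroup G) (a b : Subgroup G) (u : G), MaxX x A → XInv x B → a ≤ A →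
      IsPGroup p a → (∀ q ∈ A, IsPGroup p (zpowers q) → q ∈ a) →
      (∀ g : G, (∀ q ∈ A, g * q * g⁻¹ ∈ A) → ∀ t ∈ a, g * t * g⁻¹ ∈ a) →
      ¬ p ∣ a.relIndex A → a ≠ ⊥ → u * x * u⁻¹ ∈ zpowers x →
      (∀ g : G, (∀ q ∈ B, g * q * g⁻¹ ∈ B) → ∀ t ∈ b, g * t * g⁻¹ ∈ b) →
      (∀ t, t ∈ b ↔ u * t * u⁻¹ ∈ a) → ∀ q ∈ B, u * q * u⁻¹ ∈ A := by
    intro A B a b u hA hB haA hap hamax han hai ha hu hbn hab q hq
    set B' := B.map (MulAut.conj u).toMonoidHom
    have hB' : XInv x B' := by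
      refine ⟨?_, by rw [card_map_of_injective (MulAut.conj u).injective]; exact hB.not_dvd⟩
      rintro _ ⟨w, hw, rfl⟩
      simp only [MulEquiv.coe_toMonoidHom, MulAut.conj_apply]
      rcases hx.mem_or_inverts hu with h1 | h1
      · have hc : u * x = x * u := by
          obtain ⟨j, rfl⟩ := h1
          exact (Commute.zpow_left (Commute.refl x) j).eq
        refine ⟨x * w * x⁻¹, hB.conj w hw, ?_⟩
        simp only [MulEquiv.coe_toMonoidHom, MulAut.conj_apply]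
        calc u * (x * w * x⁻¹) * u⁻¹ = (u * x) * w * (u * x)⁻¹ := by group
          _ = x * (u * w * u⁻¹) * x⁻¹ := by rw [hc]; group
      · have hc : u * x⁻¹ = x * u := by
          calc u * x⁻¹ = (u * x * u⁻¹)⁻¹ * u := by group
            _ = _ := by rw [h1, inv_inv]
        refine ⟨x⁻¹ * w * x, hB.conj_inv hw, ?_⟩
        simp only [MulEquiv.coe_toMonoidHom, MulAut.conj_apply]
        calc u * (x⁻¹ * w * x) * u⁻¹ = (u * x⁻¹) * w * (u * x⁻¹)⁻¹ := by group
          _ = x * (u * w * u⁻¹) * x⁻¹ := by rw [hc]; group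
    have hB'n : B' ≤ normalizer (A : Set G) := by
      rintro _ ⟨w, hw, rfl⟩
      refine mem_normalizer_fintype ((hA.part_normalizer hx ih haA hap hamax han hai ha _
        (mem_normalizer_fintype fun t ht => ?_)).1)
      have h1 : u⁻¹ * t * u ∈ b := (hab _).2 (by simpa [mul_assoc] using ht)
      have h2 := (hab _).1 (hbn w (fun q hq => mul_mem (mul_mem hw hq) (inv_mem hw)) _ h1)
      simpa [mul_assoc] using h2
    have := hA.eq_of_le (hB'.sup hA.1 hB'n) le_sup_right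
    exact this ▸ (le_sup_left (a := B') (b := A)) (mem_map_of_mem _ hq)
  have hninv : n⁻¹ * x * n⁻¹⁻¹ ∈ zpowers x := by
    rcases hx.mem_or_inverts hnx with h1 | h1
    · obtain ⟨j, hj⟩ := h1
      have hj' : x ^ j = n := hj
      rw [← hj']
      simpa using mul_mem (mul_mem (inv_mem (zpow_mem (mem_zpowers x) j)) (mem_zpowers x))
        (zpow_mem (mem_zpowers x) j)
    · have e : n⁻¹ = n := inv_eq_of_mul_eq_one_right (hx.inverter_mul_self h1)
      rw [e] at h1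
      rw [e, e, h1]
      exact inv_mem (mem_zpowers x)
  have h1 := key Q R S T n⁻¹ hQ hR.1 hSQ hSp hSmax hSn hSi hS hninv hTn
    (fun t => by rw [inv_inv]; exact hnST t)
  have h2 := key R Q T S n hR hQ.1 hTR hTp hTmax hTn hTi hT hnx hSn
    (fun v => by rw [hnST]; simp [mul_assoc])
  have hmem : ∀ q, q ∈ R ↔ n⁻¹ * q * n ∈ Q := by
    intro q
    refine ⟨fun hq => by simpa using h1 q hq, fun hq => ?_⟩
    simpa [mul_assoc] using h2 _ hq
  rcases hx.mem_or_inverts hnx with hz | hz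
  · left
    ext q
    rw [hmem]
    rcases hx.mem_zpowers_cases.1 hz with h | h | h <;> rw [h]
    · simp
    · refine ⟨fun hq => ?_, fun hq => hQ.1.conj_inv hq⟩
      simpa [mul_assoc] using hQ.1.conj _ hq
    · rw [inv_inv]
      refine ⟨fun hq => ?_, fun hq => hQ.1.conj q hq⟩
      simpa [mul_assoc] using hQ.1.conj_inv hq
  · right
    obtain ⟨k, hk, hnk⟩ := hx.inverter_eq hs hz
    ext q
    rw [hmem, mem_map_equiv, hnk]
    simp only [MulAut.conj_symm_apply]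
    rw [show (s * k)⁻¹ * q * (s * k) = k⁻¹ * (s⁻¹ * q * s) * k by group]
    rcases hx.mem_zpowers_cases.1 hk with rfl | rfl | rfl
    · simp
    · refine ⟨fun hq => ?_, fun hq => hQ.1.conj_inv hq⟩
      simpa [mul_assoc] using hQ.1.conj _ hq
    · rw [inv_inv]
      refine ⟨fun hq => ?_, fun hq => hQ.1.conj _ hq⟩
      simpa [mul_assoc] using hQ.1.conj_inv hq

/-- Maximal `⟨x, s⟩`-invariant `3'`-subgroups meet trivially. -/
theorem sinv_disjoint {s : G} (hs : s * x * s⁻¹ = x⁻¹) : ∀ {Q R : Subgroup G},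
    Maximal (SInv x s) Q → Maximal (SInv x s) R → Q ≠ R → Q ⊓ R = ⊥ := by
  suffices h : ∀ k, ∀ Q R : Subgroup G, Maximal (SInv x s) Q → Maximal (SInv x s) R → Q ≠ R →
      Nat.card G - Nat.card (Q ⊓ R : Subgroup G) = k → Q ⊓ R = ⊥ from
    fun {Q R} hQ hR hne => h _ Q R hQ hR hne rfl
  intro k
  induction k using Nat.strong_induction_on with
  | _ k IH =>
  intro Q R hQ hR hne hk
  by_contra hD
  set D := Q ⊓ R with hDdef
  have hD3 : ¬ 3 ∣ Nat.card D := fun h =>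
    hQ.1.1.not_dvd (h.trans (card_dvd_of_le inf_le_left))
  set L := normalizer (D : Set G)
  have hxL : x ∈ L := mem_normalizer_fintype fun d hd => ⟨hQ.1.1.conj d hd.1, hR.1.1.conj d hd.2⟩
  have hsL : s ∈ L := mem_normalizer_fintype fun d hd => ⟨hQ.1.2 d hd.1, hR.1.2 d hd.2⟩
  obtain ⟨M, hM⟩ := exists_local hx ih hxL (normalizer_ne_top hx hD hD3)
  have hDM : D ≤ M := hM.max D le_normalizer
    (fun g hg d hd => (Subgroup.mem_normalizer_iff.1 hg d).1 hd) hD3
  have hMX : XInv x M := hM.xinv hxL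
  have hMne : M ≠ ⊥ := fun h => hD (le_bot_iff.1 (h ▸ hDM))
  have hsub : ∀ K : Subgroup G, SInv x s K → K ≤ L → K ≤ M := by
    intro K hK hKL
    have hKM : XInv x (K ⊔ M) := hK.1.sup hMX (hKL.trans hM.le_normalizer)
    rcases hM.cases with hA | hB
    · intro g hg
      obtain ⟨m, hm, hn⟩ := hA g (hKL hg)
      have := MaxX.inverter_mul_not_mem hx hKM
        (mul_mem (inv_mem (mem_sup_right hm)) (mem_sup_left hg)) hn
      rw [inv_mul_eq_one] at this
      exact this ▸ hm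
    · obtain ⟨-, -, hK'⟩ := hB hMne
      have := (hK' (K ⊔ M) hKM (sup_le hKL hM.le) le_sup_right).2 s hsL hs (fun q hq => by
        have hle : (K ⊔ M).map (MulAut.conj s).toMonoidHom ≤ K ⊔ M := by
          rw [Subgroup.map_sup]
          apply sup_le_sup
          · rintro _ ⟨w, hw, rfl⟩; exact hK.2 w hw
          · rintro _ ⟨w, hw, rfl⟩; exact hM.conj s hsL w hw
        exact hle (mem_map_of_mem _ hq))
      exact this ▸ le_sup_left
  have hMS : SInv x s M := ⟨hMX, hM.conj s hsL⟩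
  obtain ⟨T, hMT, hT⟩ := Finite.exists_le_maximal (p := SInv x s) hMS
  have grow : ∀ A, Maximal (SInv x s) A → D ≤ A → D ≠ A → A = T := by
    intro A hA hDA hDA'
    by_contra hAT
    have hnil := hA.1.1.isNilpotent hx
    have hlt : D.subgroupOf A < ⊤ := lt_top_iff_ne_top.2 fun h =>
      hDA' (le_antisymm hDA (subgroupOf_eq_top.1 h))
    obtain ⟨⟨a, haA⟩, han, haD⟩ :=
      SetLike.exists_of_lt (Group.normalizerCondition_of_isNilpotent _ hlt)
    have haL : a ∈ L := mem_normalizer_fintype fun d hd =>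
      (Subgroup.mem_normalizer_iff.1 han ⟨d, hDA hd⟩).1 hd
    have hAL : SInv x s (A ⊓ L) := by
      refine ⟨⟨fun q hq => ⟨hA.1.1.conj q hq.1,
          L.mul_mem (L.mul_mem hxL hq.2) (L.inv_mem hxL)⟩,
        fun h => hA.1.1.not_dvd (h.trans (card_dvd_of_le inf_le_left))⟩,
        fun q hq => ⟨hA.1.2 q hq.1, L.mul_mem (L.mul_mem hsL hq.2) (L.inv_mem hsL)⟩⟩
    have hALM : A ⊓ L ≤ M := hsub _ hAL inf_le_right
    have hlt' : Nat.card D < Nat.card (A ⊓ T : Subgroup G) := by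
      by_contra hge
      have he := eq_of_le_of_card_ge (le_inf hDA (hDM.trans hMT)) (not_lt.1 hge)
      exact haD (mem_subgroupOf.2 (he.symm ▸ ⟨haA, hMT (hALM ⟨haA, haL⟩)⟩))
    have hb := IH _ (by
      have := Nat.le_of_dvd Nat.card_pos (card_subgroup_dvd_card (A ⊓ T))
      omega) A T hA hT hAT rfl
    rw [hb, card_bot] at hlt'
    have := Nat.card_pos (α := D)
    omega
  have e1 : D ≠ Q := fun h => hne (by
    have : Q ≤ R := h ▸ inf_le_right
    exact le_antisymm this (hQ.2 hR.1 this))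
  have e2 : D ≠ R := fun h => hne (by
    have : R ≤ Q := h ▸ inf_le_left
    exact le_antisymm (hR.2 hQ.1 this) this)
  exact hne ((grow Q hQ inf_le_left e1).trans (grow R hR inf_le_right e2).symm)

end CfsgLib.SelfThree29
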